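import Mathlib

/-!
The two degrees just below the bound do not divide the order of `²E₆(q)`.
-/

set_option autoImplicit false
set_option maxRecDepth 100000

namespace Cfsg.Agent.Lib.TE6Deg41

/-- The bound. -/
def target (q : ℕ) : ℕ := q * (q ^ 6 - q ^ 3 + 1) * (q ^ 4 + 1)

/-- The order without its `p`-part, times the centre. -/
def orderPoly (q : ℕ) : ℕ := (q ^ 2 - 1) * (q ^ 5 + 1) * (q ^ 6 - 1) * (q ^ 8 - 1) * (q ^ 9 + 1) * (q ^ 12 - 1)

/-- The same as an integer polynomial. -/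
def orderZ (x : ℤ) : ℤ := (x ^ 2 - 1) * (x ^ 5 + 1) * (x ^ 6 - 1) * (x ^ 8 - 1) * (x ^ 9 + 1) * (x ^ 12 - 1)

/-- The candidate degree. -/
def degZ (j : ℕ) (x : ℤ) : ℤ := x * (x ^ 6 - x ^ 3 + 1) * (x ^ 4 + 1) - j

/-- Evaluation of a coefficient list. -/
def evL : List ℤ → ℤ → ℤ
  | [], _ => 0
  | a :: L, x => a + x * evL L x

/-- The sum of the absolute values. -/
def absSum : List ℤ → ℕ
  | [] => 0
  | a :: L => a.natAbs + absSum L

theorem abs_evL {x : ℤ} (hx : 1 ≤ x) : ∀ L : List ℤ, |evL L x| * x ≤ absSum L * x ^ L.length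
  | [] => by simp [evL, absSum]
  | a :: L => by
    have ih := abs_evL hx L
    have hx0 : 0 ≤ x := by omega
    have hp : x ≤ x ^ (L.length + 1) := le_self_pow₀ hx (by omega)
    have h1 : |a| * x ≤ |a| * x ^ (L.length + 1) := mul_le_mul_of_nonneg_left hp (abs_nonneg a)
    calc |evL (a :: L) x| * x ≤ (|a| + |x * evL L x|) * x := mul_le_mul_of_nonneg_right (abs_add_le _ _) hx0
      _ = |a| * x + x * (|evL L x| * x) := by rw [abs_mul, abs_of_nonneg hx0]; ring
      _ ≤ |a| * x ^ (L.length + 1) + x * (absSum L * x ^ L.length) :=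
          add_le_add h1 (mul_le_mul_of_nonneg_left ih hx0)
      _ = _ := by
          simp only [absSum, List.length_cons, Nat.cast_add, Int.natCast_natAbs, pow_succ]
          ring

theorem evL_append (r x : ℤ) : ∀ L : List ℤ, evL (L ++ [r]) x = evL L x + x ^ L.length * r
  | [] => by simp [evL]
  | a :: L => by simp only [List.cons_append, evL, evL_append r x L, List.length_cons, pow_succ]; ring

theorem sub_le_target (q : ℕ) : q ^ 3 ≤ q ^ 6 := by
  rcases Nat.eq_zero_or_pos q with h | h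
  · subst h; simp
  · exact Nat.pow_le_pow_right h (by norm_num)

/-- The checks for small field orders. -/
def chkSmall (j : ℕ) : ℕ → Bool
  | 0 => true
  | n + 1 => (Nat.blt n 3 || !Nat.beq (j * orderPoly n % (target n - j)) 0) && chkSmall j n

theorem chkSmall_spec {j : ℕ} : ∀ {n : ℕ}, chkSmall j n = true → ∀ q, 3 ≤ q → q < n → j * orderPoly q % (target q - j) ≠ 0
  | 0, _, q, _, h => absurd h (Nat.not_lt_zero q)
  | n + 1, h, q, h3, hq => by
    simp only [chkSmall, Bool.and_eq_true, Bool.or_eq_true, Nat.blt_eq, Bool.not_eq_true'] at h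
    rcases Nat.lt_succ_iff_lt_or_eq.1 hq with h' | rfl
    · exact chkSmall_spec h.2 q h3 h'
    · rcases h.1 with e | e
      · omega
      · intro e'; rw [e'] at e; exact absurd e (by decide)

theorem excl (j : ℕ) (Q L : List ℤ) (r : ℤ) (hj : 0 < j) (hj2 : j ≤ 2) (hlen : L.length = 10) (hr : r ≠ 0)
    (hid : ∀ x : ℤ, orderZ x = evL Q x * degZ j x + evL (L ++ [r]) x)
    (hsmall : chkSmall j (j * (r.natAbs + absSum L) + 3) = true) {q : ℕ} (hq : 3 ≤ q) :
    ¬(target q - j ∣ j * orderPoly q) := by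
  intro hdvd
  rcases Nat.lt_or_ge q (j * (r.natAbs + absSum L) + 3) with h | h
  · exact chkSmall_spec hsmall q hq h (Nat.mod_eq_zero_of_dvd hdvd)
  set S := absSum L
  set x : ℤ := (q : ℤ) with hx
  have hxB : (j : ℤ) * (|r| + (S : ℤ)) + 3 ≤ x := by
    rw [hx, ← Int.natCast_natAbs]; exact_mod_cast h
  have hx1 : (1 : ℤ) ≤ x := by omega
  have hjt : j ≤ target q := by
    have : q ≤ target q := le_trans (Nat.le_mul_of_pos_right q (Nat.succ_pos _)) (Nat.le_mul_of_pos_right _ (Nat.succ_pos _))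
    omega
  have hz : degZ j x ∣ (j : ℤ) * orderZ x := by
    have h0 : ((target q - j : ℕ) : ℤ) ∣ ((j * orderPoly q : ℕ) : ℤ) := Int.natCast_dvd_natCast.2 hdvd
    rw [Nat.cast_sub hjt] at h0
    simp only [orderPoly, target, Nat.cast_mul, Nat.cast_sub (Nat.one_le_pow _ q (by omega)), Nat.cast_pow,
      Nat.cast_one, Nat.cast_add, Nat.cast_sub (sub_le_target q)] at h0
    exact h0
  set R := evL (L ++ [r]) x with hR
  have h2 : degZ j x ∣ (j : ℤ) * R := by
    have : (j : ℤ) * R = (j : ℤ) * orderZ x - degZ j x * ((j : ℤ) * evL Q x) := by rw [hid, hR]; ring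
    rw [this]
    exact dvd_sub hz (dvd_mul_right _ _)
  have hb := abs_evL hx1 L
  rw [hlen] at hb
  have hsplit : R = evL L x + x ^ 10 * r := by rw [hR, evL_append, hlen]
  have hp : (0 : ℤ) < x ^ 10 := by positivity
  have hr1 : (1 : ℤ) ≤ |r| := by
    have := abs_pos.2 hr; omega
  have hS : (S : ℤ) < x := by
    have h1 : (1 : ℤ) ≤ (j : ℤ) := by exact_mod_cast hj
    nlinarith [Int.natCast_nonneg S]
  have hlow : |evL L x| < x ^ 10 := by
    by_contra hc
    push Not at hc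
    have h1 : x ^ 10 * x ≤ |evL L x| * x := mul_le_mul_of_nonneg_right hc (by omega)
    nlinarith
  have hR0 : R ≠ 0 := by
    intro e
    have h1 : |x ^ 10 * r| = |evL L x| := by
      rw [show x ^ 10 * r = -evL L x by linarith [hsplit ▸ e], abs_neg]
    rw [abs_mul, abs_of_pos hp] at h1
    nlinarith
  have hlt : |(j : ℤ) * R| < degZ j x := by
    rw [abs_mul, abs_of_nonneg (Int.natCast_nonneg j)]
    have h1 : |R| ≤ x ^ 10 * (|r| + 1) := by
      rw [hsplit]
      refine (abs_add_le _ _).trans ?_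
      rw [abs_mul, abs_of_pos hp]
      linarith
    have h2 : (j : ℤ) * |R| * x ≤ (x - 2) * x ^ 10 * x := by
      have h3 : |R| * x ≤ x ^ 10 * (|r| * x + S) := by
        have : |R| ≤ |evL L x| + x ^ 10 * |r| := by
          rw [hsplit]; refine (abs_add_le _ _).trans ?_; rw [abs_mul, abs_of_pos hp]
        calc |R| * x ≤ (|evL L x| + x ^ 10 * |r|) * x := mul_le_mul_of_nonneg_right this (by omega)
          _ = |evL L x| * x + x ^ 10 * |r| * x := by ring
          _ ≤ _ := by linarith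
      have h4 : (j : ℤ) * (|r| * x + S) ≤ (x - 2) * x := by
        have h5 : |r| * x + S ≤ (|r| + S) * x := by nlinarith [Int.natCast_nonneg S]
        calc (j : ℤ) * (|r| * x + S) ≤ j * ((|r| + S) * x) := mul_le_mul_of_nonneg_left h5 (Int.natCast_nonneg j)
          _ = (j * (|r| + S)) * x := by ring
          _ ≤ _ := mul_le_mul_of_nonneg_right (by linarith) (by omega)
      calc (j : ℤ) * |R| * x = j * (|R| * x) := by ring
        _ ≤ j * (x ^ 10 * (|r| * x + S)) := mul_le_mul_of_nonneg_left h3 (Int.natCast_nonneg j)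
        _ = x ^ 10 * (j * (|r| * x + S)) := by ring
        _ ≤ x ^ 10 * ((x - 2) * x) := mul_le_mul_of_nonneg_left h4 hp.le
        _ = _ := by ring
    have h6 : (j : ℤ) * |R| ≤ (x - 2) * x ^ 10 := le_of_mul_le_mul_right h2 (by omega)
    have h7 : degZ j x = x ^ 11 - x ^ 8 + x ^ 7 + x ^ 5 - x ^ 4 + x - j := by unfold degZ; ring
    have h8 : (x - 2) * x ^ 10 = x ^ 11 - 2 * x ^ 10 := by ring
    have e8 : x ^ 8 ≤ x ^ 10 := pow_le_pow_right₀ hx1 (by norm_num)
    have e4 : x ^ 4 ≤ x ^ 7 := pow_le_pow_right₀ hx1 (by norm_num)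
    have : 0 ≤ x ^ 5 := by positivity
    have hj' : (j : ℤ) ≤ 2 := by exact_mod_cast hj2
    linarith
  exact mul_ne_zero (by exact_mod_cast hj.ne') hR0 (Int.eq_zero_of_abs_lt_dvd h2 hlt)

theorem excl1 {q : ℕ} (hq : 3 ≤ q) : ¬(target q - 1 ∣ 1 * orderPoly q) :=
  excl 1 [-23, 25, -14, -2, 15, -17, 8, 5, -11, 10, -3, -4, 6, -4, 1, 1, -3, 3, 1, -3, 2, 0, -1, 2, -2, 0, 0, -1, 1, -1, 0, 1]
    [-22, 48, -40, 12, -6, 17, -15, 31, -47, 29] 1 (by norm_num) (by norm_num) rfl (by norm_num)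
    (fun x => by simp only [evL, orderZ, degZ, List.cons_append, List.nil_append]; ring) (by decide +kernel) hq

theorem excl2 {q : ℕ} (hq : 3 ≤ q) : ¬(target q - 2 ∣ 2 * orderPoly q) :=
  excl 2 [-42, 63, -49, 7, 26, -40, 24, 6, -21, 22, -7, -5, 10, -9, 3, 0, -5, 5, 0, -3, 3, 0, -1, 2, -2, 0, 0, -1, 1, -1, 0, 1]
    [-83, 168, -162, 63, 3, 0, -25, 85, -134, 112] (-27) (by norm_num) (by norm_num) rfl (by norm_num)
    (fun x => by simp only [evL, orderZ, degZ, List.cons_append, List.nil_append]; ring) (by decide +kernel) hq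

theorem two_ok : ((1 : ℕ) ≤ target 2 ∧ 2 ^ 36 * orderPoly 2 % (target 2 - 1) ≠ 0) ∧
    2 ^ 36 * orderPoly 2 % (target 2 - 2) ≠ 0 := by decide +kernel

/-- No degree in the gap divides the order. -/
theorem no_degree {q d : ℕ} (hq : IsPrimePow q) (hd : d ∣ q ^ 36 * orderPoly q) (hlo : target q ≤ d + 2) :
    target q ≤ d := by
  by_contra hlt
  obtain ⟨p, a, hp, ha, rfl⟩ := hq
  have hp' := hp.nat_prime
  set q := p ^ a
  have hq2 : 2 ≤ q := le_trans hp'.two_le (Nat.le_self_pow ha.ne' p)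
  obtain ⟨j, hj1, hj2, rfl⟩ : ∃ j, 1 ≤ j ∧ j ≤ 2 ∧ d = target q - j := ⟨target q - d, by omega, by omega, by omega⟩
  rcases Nat.lt_or_ge q 3 with hs | hs
  · have e : q = 2 := by omega
    rw [e] at hd
    interval_cases j
    · exact two_ok.1.2 (Nat.mod_eq_zero_of_dvd hd)
    · exact two_ok.2 (Nat.mod_eq_zero_of_dvd hd)
  have hqt : q ∣ target q := ⟨(q ^ 6 - q ^ 3 + 1) * (q ^ 4 + 1), by rw [target]; ring⟩
  have hjt : j ≤ target q := by
    have : q ≤ target q := le_trans (Nat.le_mul_of_pos_right q (Nat.succ_pos _)) (Nat.le_mul_of_pos_right _ (Nat.succ_pos _))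
    omega
  have hg : Nat.gcd (target q - j) (q ^ 36) ∣ j := by
    have h1 : Nat.gcd (target q - j) (q ^ 36) ∣ p ^ (a * 36) := by rw [pow_mul]; exact Nat.gcd_dvd_right _ _
    obtain ⟨k, hk, e⟩ := (Nat.dvd_prime_pow hp').1 h1
    by_cases hka : a ≤ k
    · exfalso
      have h2 : q ∣ target q - j := (pow_dvd_pow p hka).trans (e ▸ Nat.gcd_dvd_left _ _)
      have h3 := Nat.dvd_sub hqt h2
      rw [show target q - (target q - j) = j by omega] at h3
      exact absurd (Nat.le_of_dvd (by omega) h3) (by omega)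
    · rw [e]
      have h2 : p ^ k ∣ q := pow_dvd_pow p (by omega)
      have h3 : p ^ k ∣ target q - j := e ▸ Nat.gcd_dvd_left _ _
      have h4 := Nat.dvd_sub (h2.trans hqt) h3
      rwa [show target q - (target q - j) = j by omega] at h4
  have hfin : target q - j ∣ j * orderPoly q :=
    (Nat.dvd_gcd (Dvd.intro _ rfl) hd).trans (by rw [Nat.gcd_mul_right]; exact Nat.mul_dvd_mul_right hg _)
  interval_cases j
  · exact excl1 hs hfin
  · exact excl2 hs hfin

end Cfsg.Agent.Lib.TE6Deg41
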