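import Cfsg.Agent.Lib.E6Deg41.Delta
import Cfsg.Agent.Lib.Twisted.Core.E6

/-!
The graph symmetry on the root data of `E₆`: compatibility with sums, structure constants and Weyl words.
-/

set_option autoImplicit false
set_option maxRecDepth 8000

namespace Cfsg.Agent.Lib.TE6Deg41

open Cfsg.Lie Cfsg.Agent.Lib.Chev Cfsg.Agent.Lib.E6Deg41
open Cfsg.Agent.Lib.Twisted (e6Graph)

/-- The certificate. -/
abbrev E : Cert := E6.cert

/-- The image of a root under the symmetry. -/
def sg (r : ℕ) : ℕ := Twisted.GraphData.root e6Graph r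

/-- The sign of a root under the symmetry. -/
def ep (r : ℕ) : ℤ := Twisted.GraphData.sign e6Graph r

/-- The second step through two roots, with its coefficient. -/
def sc (e e' r : ℕ) : Option (ℕ × ℤ) :=
  (sm E e r).bind fun a => (sm E e' a).map fun b => (b, Nc E e r * Nc E e' a)

/-- The symmetry is an involution with signs. -/
def chkInv : Bool :=
  allN 72 fun r => Nat.blt (sg r) 72 && Nat.beq (sg (sg r)) r && decide (ep r * ep (sg r) = 1) &&
    (decide (ep r = 1) || decide (ep r = -1)) && (!Nat.beq (sg r) r || decide (ep r = 1))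

/-- The symmetry respects sums and structure constants. -/
def chkEqv : Bool :=
  allN 72 fun e => allN 72 fun r => match sm E e r with
    | none => decide (sm E (sg e) (sg r) = none)
    | some a => Nat.blt a 72 && decide (sm E (sg e) (sg r) = some (sg a)) &&
        decide (Nc E (sg e) (sg r) = ep e * ep r * ep a * Nc E e r)

/-- Two roots of an orbit commute and so do their moves. -/
def chkPair : Bool :=
  allN 72 fun e => Nat.beq (sg e) e ||
    (decide (sm E e (sg e) = none) && !Nat.beq (sg e) (ng chevE6 e) && allN 72 fun r => decide (sc e (sg e) r = sc (sg e) e r))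

theorem inv_ok : chkInv = true := by decide +kernel
theorem eqv_ok : chkEqv = true := by decide +kernel
theorem pair_ok : chkPair = true := by decide +kernel

theorem sg_lt {r : ℕ} (hr : r < 72) : sg r < 72 := by
  have := allN_iff.1 inv_ok r hr
  simp only [Bool.and_eq_true, Nat.blt_eq] at this
  exact this.1.1.1.1

theorem sg_sg {r : ℕ} (hr : r < 72) : sg (sg r) = r := by
  have := allN_iff.1 inv_ok r hr
  simp only [Bool.and_eq_true, natBeq_eq, decide_eq_true_eq] at this
  exact this.1.1.1.2

theorem ep_mul {r : ℕ} (hr : r < 72) : ep r * ep (sg r) = 1 := by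
  have := allN_iff.1 inv_ok r hr
  simp only [Bool.and_eq_true, decide_eq_true_eq] at this
  exact this.1.1.2

theorem ep_cases {r : ℕ} (hr : r < 72) : ep r = 1 ∨ ep r = -1 := by
  have := allN_iff.1 inv_ok r hr
  simp only [Bool.and_eq_true, Bool.or_eq_true, decide_eq_true_eq] at this
  exact this.1.2

theorem ep_fix {r : ℕ} (hr : r < 72) (h : sg r = r) : ep r = 1 := by
  have := allN_iff.1 inv_ok r hr
  simp only [Bool.and_eq_true, Bool.or_eq_true, decide_eq_true_eq, Bool.not_eq_true', natBeq_eq,
    decide_eq_false_iff_not] at this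
  exact this.2.resolve_left fun e => e h

theorem sm_sg {e r : ℕ} (he : e < 72) (hr : r < 72) : sm E (sg e) (sg r) = (sm E e r).map sg := by
  have := allN_iff.1 (allN_iff.1 eqv_ok e he) r hr
  rcases h : sm E e r with _ | a <;> rw [h] at this
  · simpa using this
  · simp only [Bool.and_eq_true, decide_eq_true_eq] at this
    simp [this.1.2]

theorem sm_some {e r a : ℕ} (he : e < 72) (hr : r < 72) (h : sm E e r = some a) :
    a < 72 ∧ Nc E (sg e) (sg r) = ep e * ep r * ep a * Nc E e r := by
  have := allN_iff.1 (allN_iff.1 eqv_ok e he) r hr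
  rw [h] at this
  simp only [Bool.and_eq_true, decide_eq_true_eq, Nat.blt_eq] at this
  exact ⟨this.1.1, this.2⟩

theorem pair_facts {e : ℕ} (he : e < 72) (h : sg e ≠ e) :
    sm E e (sg e) = none ∧ sg e ≠ ng chevE6 e ∧ ∀ r < 72, sc e (sg e) r = sc (sg e) e r := by
  have := allN_iff.1 pair_ok e he
  simp only [Bool.or_eq_true, Bool.and_eq_true, decide_eq_true_eq, natBeq_eq, Bool.not_eq_true',
    decide_eq_false_iff_not, allN_iff] at this
  exact ⟨(this.resolve_left h).1.1, (this.resolve_left h).1.2, (this.resolve_left h).2⟩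

/-- An orbit of the symmetry. -/
def orb (r : ℕ) : List ℕ := if sg r = r then [r] else [r, sg r]

/-- The roots of a list of orbit representatives, orbit by orbit. -/
def orbL (R : List ℕ) : List ℕ := R.flatMap orb

theorem self_mem_orb (r : ℕ) : r ∈ orb r := by unfold orb; split_ifs <;> simp

theorem mem_orbL_self {R : List ℕ} {r : ℕ} (h : r ∈ R) : r ∈ orbL R :=
  List.mem_flatMap.2 ⟨r, h, self_mem_orb r⟩

theorem mem_orb {r a : ℕ} (h : a ∈ orb r) : a = r ∨ (a = sg r ∧ sg r ≠ r) := by
  unfold orb at h
  split_ifs at h with e <;> simp at h <;> tauto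

theorem orbL_sg {R : List ℕ} (hR : ∀ r ∈ R, r < 72) {a : ℕ} (ha : a ∈ orbL R) : sg a ∈ orbL R := by
  obtain ⟨r, hr, h⟩ := List.mem_flatMap.1 ha
  refine List.mem_flatMap.2 ⟨r, hr, ?_⟩
  rcases mem_orb h with e | ⟨e, hne⟩
  · subst e; unfold orb; split_ifs with e' <;> simp [e']
  · subst e; rw [sg_sg (hR r hr)]; exact self_mem_orb r

theorem orbL_lt {R : List ℕ} (hR : ∀ r ∈ R, r < 72) {a : ℕ} (ha : a ∈ orbL R) : a < 72 := by
  obtain ⟨r, hr, h⟩ := List.mem_flatMap.1 ha
  rcases mem_orb h with e | ⟨e, -⟩ <;> subst e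
  · exact hR _ hr
  · exact sg_lt (hR _ hr)

/-- `x_e` normalises the centre `z`. -/
def zok (z e : ℕ) : Bool := Nat.ble 72 z || (!Nat.beq z (ng chevE6 e) && decide (sm E e z = none))

/-- A list commuting modulo the centre. -/
def chkAb (z : ℕ) (R : List ℕ) : Bool :=
  decide (orbL R).Nodup && R.all (fun r => Nat.blt r 72) &&
    (orbL R).all fun r => zok z r && (orbL R).all fun s =>
      !Nat.beq s (ng chevE6 r) && (decide (sm E r s = none) || decide (sm E r s = some z))

theorem zok_iff {z e : ℕ} : zok z e = true ↔ 72 ≤ z ∨ (z ≠ ng chevE6 e ∧ sm E e z = none) := by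
  simp [zok, natBeq_eq, Nat.ble_eq]

end Cfsg.Agent.Lib.TE6Deg41
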