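import Cfsg.Agent.Lib.TE6Deg41.Group

/-!
Elements of the twisted group, and the finite groups of functions following the twist.
-/

set_option autoImplicit false
set_option linter.unusedSectionVars false

namespace Cfsg.Agent.Lib.TE6Deg41

open Cfsg.Lie Cfsg.Agent.Lib.Chev Cfsg.Agent.Lib.E6Deg41 Cfsg.Agent.Lib.ChevOver
open Cfsg.Agent.Lib.Twisted (e6Graph_facts)
open Cfsg.Agent.Lib.Twisted.Core (e6Twist e6Orbits commute_orth)

variable {K : Type*} [Field K] [Fintype K] {q : ℕ} {φ : K ≃+* K}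

/-- The twisted group inside the group over the larger field. -/
def GT (K : Type*) [Field K] (q : ℕ) : Subgroup ↥(chevE6.group K) := (twistedE6 K q).subgroupOf (chevE6.group K)

variable (H : Hyp K q φ) (X : XK K)
include H

theorem Hyp.le_group : twistedE6 K q ≤ chevE6.group K :=
  (Twisted.Core.e6_le_fixed φ H.hφ H.h2).trans (e6Twist φ).fixedGroup_le_group

theorem Hyp.mem_GT {g : ↥(chevE6.group K)} :
    g ∈ GT K q ↔ (e6Twist φ).sig (g : GL chevE6.Idx K) = g := by
  rw [GT, Subgroup.mem_subgroupOf]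
  show (g : GL chevE6.Idx K) ∈ (e6Orbits H.hq H.hK φ H.hφ H.h2).system.G ↔ _
  rw [(e6Orbits H.hq H.hK φ H.hφ H.h2).system.eq_fixedGroup, Twisted.Core.Twist.mem_fixedGroup]
  exact ⟨fun h => h.2, fun h => ⟨g.2, h⟩⟩

omit H in
theorem sig_x {r : ℕ} (hr : r < 72) (t : K) :
    (e6Twist φ).sig (X.x r t : GL chevE6.Idx K) = X.x (sg r) ((ep r : K) * φ t) := by
  show (e6Twist φ).sig (xg X.hh r t) = xg X.hh (sg r) ((ep r : K) * φ t)
  rw [xg_eq X.hh (show r < chevE6.nroots from hr), xg_eq X.hh (show sg r < chevE6.nroots from sg_lt hr)]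
  exact (e6Twist φ).sig_x (show r < chevE6.nroots from hr) t

theorem Hyp.blk_mem {p : ℕ × K} (hp : okB φ p) : uEl X (blk φ p) ∈ GT K q := by
  obtain ⟨r, t⟩ := p
  obtain ⟨hr, ht⟩ := hp
  rw [H.mem_GT]
  simp only [blk]
  split_ifs with h
  · rw [uEl_cons, uEl_nil, mul_one, sig_x X hr, h, ep_fix hr h, Int.cast_one, one_mul, ht h]
  · rw [uEl_cons, uEl_cons, uEl_nil, mul_one, Subgroup.coe_mul,
      (e6Twist φ).sig_mul (X.x r t).2 (X.x (sg r) _).2, sig_x X hr, sig_x X (sg_lt hr), sg_sg hr, ep_sg hr,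
      map_mul, map_intCast, H.h2, ← mul_assoc, ep_sq hr, one_mul]
    exact congrArg Subtype.val
      (X.swap_none (show r < chevE6.nroots from hr) (show sg r < chevE6.nroots from sg_lt hr)
        (pair_facts hr h).2.1 (pair_facts hr h).1 t ((ep r : K) * φ t))

theorem Hyp.bEl_mem {l : List (ℕ × K)} (h : ∀ p ∈ l, okB φ p) : uEl X (l.flatMap (blk φ)) ∈ GT K q := by
  induction l with
  | nil => exact one_mem _
  | cons p l ih =>
    rw [List.flatMap_cons, uEl_append]
    exact mul_mem (H.blk_mem X (h p List.mem_cons_self)) (ih fun a ha => h a (List.mem_cons_of_mem _ ha))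

omit H in
theorem pl_orbL {R : List ℕ} (hR : ∀ r ∈ R, r < 72) {p : ℕ → K} (hp : Eqv φ p) :
    (pl R p).flatMap (blk φ) = pl (orbL R) p := by
  induction R with
  | nil => rfl
  | cons r R ih =>
    have hr := hR r List.mem_cons_self
    rw [show pl (r :: R) p = (r, p r) :: pl R p from rfl, List.flatMap_cons,
      ih fun a ha => hR a (List.mem_cons_of_mem _ ha)]
    rw [show orbL (r :: R) = orb r ++ orbL R from rfl, pl, pl, List.map_append]
    congr 1
    unfold blk orb
    simp only
    split_ifs with e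
    · rfl
    · simp [hp.apply_sg hr]

omit H in
theorem okB_pl {R : List ℕ} (hR : ∀ r ∈ R, r < 72) {p : ℕ → K} (hp : Eqv φ p) : ∀ x ∈ pl R p, okB φ x := by
  intro x hx
  obtain ⟨r, hr, rfl⟩ := List.mem_map.1 hx
  exact ⟨hR r hr, fun e => hp.fix (hR r hr) e⟩

theorem Hyp.rep_mem {R : List ℕ} (hR : ∀ r ∈ R, r < 72) {p : ℕ → K} (hp : Eqv φ p) :
    uEl X (pl (orbL R) p) ∈ GT K q := by
  rw [← pl_orbL hR hp]
  exact H.bEl_mem X (okB_pl hR hp)

theorem Hyp.z_mem_GT {z : ℕ} (hz : z < 72) (hs : sg z = z) {t : K} : X.x z t ∈ GT K q ↔ φ t = t := by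
  rw [H.mem_GT, sig_x X hz, hs, ep_fix hz hs, Int.cast_one, one_mul]
  exact ⟨fun e => xg_injective X.hh (show z < chevE6.nroots from hz) e, fun e => by rw [e]⟩

/-! ### The fixed field -/

theorem Hyp.card_fix : Nat.card {a : K // φ a = a} = q := Twisted.Core.e6_fix_card H.hq H.hK H.hφ

theorem Hyp.exists_tr : ∃ x : K, x + φ x = 1 := by
  classical
  obtain ⟨x, hx⟩ : ∃ x : K, x + φ x ≠ 0 := by
    by_contra hcon
    push Not at hcon
    have h1 := hcon 1
    rw [map_one] at h1
    have hid : ∀ a : K, φ a = a := fun a => by linear_combination hcon a - a * h1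
    have h := H.card_fix
    rw [Nat.card_congr (Equiv.subtypeUnivEquiv hid), Nat.card_eq_fintype_card, H.hK] at h
    have := H.hq.two_le
    nlinarith
  have he : φ (x + φ x) = x + φ x := by rw [map_add, H.h2, add_comm]
  refine ⟨x / (x + φ x), ?_⟩
  rw [map_div₀, he, ← add_div, div_self hx]

theorem Hyp.exists_not_fix : ∃ a : K, φ a ≠ a := by
  by_contra hcon
  push Not at hcon
  have h := H.card_fix
  rw [Nat.card_congr (Equiv.subtypeUnivEquiv hcon), Nat.card_eq_fintype_card, H.hK] at h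
  have := H.hq.two_le
  nlinarith

omit H

/-! ### Functions supported on a list -/

/-- A function of `Fin 72` extended by zero. -/
def ext (f : Fin 72 → K) (r : ℕ) : K := if h : r < 72 then f ⟨r, h⟩ else 0

variable (φ) in
/-- The functions on a list following the twist. -/
def FP (R : List ℕ) : AddSubgroup (Fin 72 → K) where
  carrier := {f | Eqv φ (ext f) ∧ ∀ i : Fin 72, i.val ∉ orbL R → f i = 0}
  zero_mem' := ⟨fun r hr => by simp [Sop, ext, sg_lt hr, hr], fun _ _ => rfl⟩
  add_mem' {f g} hf hg := by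
    refine ⟨?_, fun i hi => by rw [Pi.add_apply, hf.2 i hi, hg.2 i hi, add_zero]⟩
    have e : ext (f + g) = ext f + ext g := funext fun r => by
      unfold ext; simp only [Pi.add_apply]; split_ifs <;> simp
    rw [e]; exact hf.1.add φ hg.1
  neg_mem' {f} hf := by
    refine ⟨?_, fun i hi => by rw [Pi.neg_apply, hf.2 i hi, neg_zero]⟩
    have e : ext (-f) = -ext f := funext fun r => by
      unfold ext; simp only [Pi.neg_apply]; split_ifs <;> simp
    rw [e]; exact hf.1.neg φ

theorem FP.eqv {R : List ℕ} (f : FP φ R) : Eqv φ (ext (f : Fin 72 → K)) := f.2.1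

theorem ext_add {R : List ℕ} (f g : FP φ R) :
    ext ((f + g : FP φ R) : Fin 72 → K) = ext (f : Fin 72 → K) + ext (g : Fin 72 → K) := funext fun r => by
  unfold ext; simp only [AddSubgroup.coe_add, Pi.add_apply]; split_ifs <;> simp

theorem ext_zero {R : List ℕ} : ext ((0 : FP φ R) : Fin 72 → K) = 0 := funext fun r => by
  unfold ext; simp

theorem FP.out {R : List ℕ} (f : FP φ R) {r : ℕ} (h : r ∉ orbL R) : ext (f : Fin 72 → K) r = 0 := by
  unfold ext
  split_ifs with hr
  · exact f.2.2 _ h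
  · rfl

theorem FP.ext_eq {R : List ℕ} {f g : FP φ R}
    (h : ∀ r ∈ orbL R, ext (f : Fin 72 → K) r = ext (g : Fin 72 → K) r) : f = g :=
  Subtype.ext (funext fun i => by
    by_cases hi : i.val ∈ orbL R
    · simpa [ext, i.2] using h i.val hi
    · rw [f.2.2 i hi, g.2.2 i hi])

/-- Restriction of a function to a list. -/
def res {R : List ℕ} (hR : ∀ r ∈ R, r < 72) {m : ℕ → K} (hm : Eqv φ m) : FP φ R :=
  ⟨fun i => if i.val ∈ orbL R then m i.val else 0, by
    refine ⟨fun r hr => ?_, fun i hi => if_neg hi⟩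
    simp only [Sop, ext, dif_pos hr, dif_pos (sg_lt hr)]
    by_cases h : r ∈ orbL R
    · rw [if_pos h, if_pos (orbL_sg hR h)]; exact hm r hr
    · rw [if_neg h, if_neg fun e => h (sg_sg hr ▸ orbL_sg hR e), map_zero, mul_zero]⟩

theorem ext_res {R : List ℕ} (hR : ∀ r ∈ R, r < 72) {m : ℕ → K} (hm : Eqv φ m) (r : ℕ) :
    ext (res hR hm : Fin 72 → K) r = if r ∈ orbL R then m r else 0 := by
  unfold ext
  split_ifs with h1 h2 h2
  · simp [res, h2]
  · simp [res, h2]
  · exact absurd (orbL_lt hR h2) h1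
  · rfl

include H in
theorem Hyp.card_FP {R : List ℕ} (hR : ∀ r ∈ R, r < 72) (hnd : (orbL R).Nodup) :
    Nat.card (FP φ R) = q ^ (orbL R).length := by
  classical
  obtain ⟨lam, hl⟩ := H.exists_not_fix
  set A := orbL R with hA
  let S := {f : Fin 72 → K // ∀ i : Fin 72, i.val ∉ A → f i = 0}
  have hne : lam - φ lam ≠ 0 := sub_ne_zero.2 (Ne.symm hl)
  have hne' : φ lam - lam ≠ 0 := sub_ne_zero.2 hl
  let F : FP φ R × FP φ R → S := fun p => ⟨fun i => p.1.1 i + lam * p.2.1 i, fun i hi => by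
    show p.1.1 i + lam * p.2.1 i = 0
    rw [p.1.2.2 i hi, p.2.2.2 i hi, mul_zero, add_zero]⟩
  have hinj : Function.Injective F := by
    rintro ⟨a, b⟩ ⟨a', b'⟩ e
    have h0 : ∀ r, ext a.1 r + lam * ext b.1 r = ext a'.1 r + lam * ext b'.1 r := fun r => by
      unfold ext
      split_ifs with h
      · exact congrFun (congrArg Subtype.val e) ⟨r, h⟩
      · rfl
    have hb : ∀ r ∈ A, ext b.1 r = ext b'.1 r := fun r hr => by
      have hr' := orbL_lt hR hr
      have e1 := h0 (sg r)
      rw [a.2.1.apply_sg hr', b.2.1.apply_sg hr', a'.2.1.apply_sg hr', b'.2.1.apply_sg hr'] at e1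
      have e2 := congrArg φ (mul_left_cancel₀ (ep_ne (K := K) hr') (show (ep r : K) * (φ (ext a.1 r) + lam * φ (ext b.1 r)) =
        (ep r : K) * (φ (ext a'.1 r) + lam * φ (ext b'.1 r)) by linear_combination e1))
      simp only [map_add, map_mul, H.h2] at e2
      refine mul_left_cancel₀ hne ?_
      linear_combination h0 r - e2
    have ha : ∀ r ∈ A, ext a.1 r = ext a'.1 r := fun r hr => by
      have := h0 r; rw [hb r hr] at this; exact add_right_cancel this
    exact Prod.ext (FP.ext_eq ha) (FP.ext_eq hb)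
  have hsurj : Function.Surjective F := by
    intro f
    let g : ℕ → K := fun r => (ext f.1 r - Sop φ (ext f.1) r) / (lam - φ lam)
    let g' : ℕ → K := fun r => ext f.1 r - lam * g r
    have hSS : ∀ r < 72, (ep r : K) * φ (Sop φ (ext f.1) (sg r)) = ext f.1 r := fun r hr => by
      rw [Sop, sg_sg hr, map_mul, map_intCast, ep_sg hr, H.h2, ← mul_assoc, ep_sq hr, one_mul]
    have hg : Eqv φ g := fun r hr => by
      show (ep r : K) * φ ((ext f.1 (sg r) - Sop φ (ext f.1) (sg r)) / (lam - φ lam)) =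
        (ext f.1 r - Sop φ (ext f.1) r) / (lam - φ lam)
      rw [map_div₀, map_sub, map_sub, H.h2]
      rw [mul_div_assoc', mul_sub, hSS r hr, div_eq_div_iff hne' hne]
      unfold Sop; ring
    have hg' : Eqv φ g' := fun r hr => by
      have e1 := hg r hr
      simp only [Sop, g', map_sub, map_mul] at e1 ⊢
      rw [mul_sub, show (ep r : K) * (φ lam * φ (g (sg r))) = φ lam * ((ep r : K) * φ (g (sg r))) by ring, e1]
      simp only [g, Sop]
      field_simp
      ring
    refine ⟨(res hR hg', res hR hg), Subtype.ext (funext fun i => ?_)⟩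
    show (res hR hg' : Fin 72 → K) i + lam * (res hR hg : Fin 72 → K) i = f.1 i
    by_cases hi : i.val ∈ A
    · simp [res, ← hA, if_pos hi, g', ext]
    · simp [res, ← hA, if_neg hi, f.2 i hi]
  have hS : Nat.card S = (q ^ 2) ^ A.length := by
    let e : S ≃ ({i : Fin 72 // i.val ∈ A} → K) :=
      { toFun := fun f i => f.1 i.1
        invFun := fun g => ⟨fun i => if h : i.val ∈ A then g ⟨i, h⟩ else 0, fun i hi => dif_neg hi⟩
        left_inv := fun f => Subtype.ext (funext fun i => by
          by_cases h : i.val ∈ A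
          · simp [h]
          · simp [h, f.2 i h])
        right_inv := fun g => funext fun i => by simp [i.2] }
    rw [Nat.card_congr e, Nat.card_fun, Nat.card_eq_fintype_card (α := K), H.hK]
    congr 1
    have e' : {i : Fin 72 // i.val ∈ A} ≃ {r // r ∈ A.toFinset} :=
      { toFun := fun i => ⟨i.1.val, List.mem_toFinset.2 i.2⟩
        invFun := fun r => ⟨⟨r.1, orbL_lt hR (List.mem_toFinset.1 r.2)⟩, List.mem_toFinset.1 r.2⟩
        left_inv := fun _ => rfl
        right_inv := fun _ => rfl }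
    rw [Nat.card_congr e', Nat.card_eq_fintype_card, Fintype.card_coe, List.toFinset_card_of_nodup hnd]
  have h := Nat.card_eq_of_bijective F ⟨hinj, hsurj⟩
  rw [Nat.card_prod, hS, ← pow_mul, mul_comm 2, pow_mul, sq] at h
  exact Nat.mul_self_inj.1 h

end Cfsg.Agent.Lib.TE6Deg41
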