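import Cfsg.Agent.Lib.TE6Deg41.Elems

/-!
Simultaneous eigenvectors of the abelian groups attached to lists of roots, and their separation.
-/

set_option autoImplicit false
set_option linter.unusedSectionVars false

namespace Cfsg.Agent.Lib.TE6Deg41

open Cfsg.Lie Cfsg.Agent.Lib.Chev Cfsg.Agent.Lib.E6Deg41 Cfsg.Agent.Lib.ChevOver Module

variable {K : Type*} [Field K] [Fintype K] {q : ℕ}

/-- The data of a representation of the twisted group. -/
structure Ctx (K : Type*) [Field K] [Fintype K] (q : ℕ) (V : Type*) [AddCommGroup V] [Module ℂ V] where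
  φ : K ≃+* K
  H : Hyp K q φ
  X : XK K
  π : ↥(GT K q) →* Module.End ℂ V

variable {V : Type*} [AddCommGroup V] [Module ℂ V] (Γ : Ctx K q V)

namespace Ctx

theorem act_mul (g h : ↥(GT K q)) (v : V) : Γ.π (g * h) v = Γ.π g (Γ.π h v) := by rw [map_mul]; rfl

theorem act_injective (g : ↥(GT K q)) : Function.Injective (Γ.π g) := fun v w e => by
  have := congrArg (Γ.π g⁻¹) e
  rwa [← Γ.act_mul, ← Γ.act_mul, inv_mul_cancel, map_one] at this

theorem finrank_le_of_map [FiniteDimensional ℂ V] (g : ↥(GT K q)) {W W' : Submodule ℂ V}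
    (h : ∀ v ∈ W, Γ.π g v ∈ W') : finrank ℂ W ≤ finrank ℂ W' :=
  LinearMap.finrank_le_finrank_of_injective (f := (Γ.π g).restrict h) fun _ _ e =>
    Subtype.ext (Γ.act_injective g (congrArg Subtype.val e))

/-- The eigenvectors of the group of `A`, modulo the centre `z`, with the character of `m`. -/
def Es (z : ℕ) (A : List ℕ) (m : ℕ → K) : Submodule ℂ V where
  carrier := {v | ∀ p, Eqv Γ.φ p → ∀ g : ↥(GT K q), Cls Γ.X z A p g → Γ.π g v = Γ.X.psi (pair A m p) • v}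
  add_mem' h1 h2 p hp g hg := by rw [map_add, h1 p hp g hg, h2 p hp g hg, smul_add]
  zero_mem' p _ g _ := by simp
  smul_mem' c v h p hp g hg := by rw [map_smul, h p hp g hg, smul_comm]

theorem mem_Es {z : ℕ} {A : List ℕ} {m : ℕ → K} {v : V} : v ∈ Γ.Es z A m ↔
    ∀ p, Eqv Γ.φ p → ∀ g : ↥(GT K q), Cls Γ.X z A p g → Γ.π g v = Γ.X.psi (pair A m p) • v := Iff.rfl

theorem Es_congr {z : ℕ} {A : List ℕ} {m m' : ℕ → K} (h : ∀ r ∈ A, m r = m' r) :
    Γ.Es z A m = Γ.Es z A m' := by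
  ext v
  simp only [mem_Es]
  refine forall₄_congr fun p _ g _ => ?_
  rw [pair_congr h fun _ _ => rfl]

/-- The vectors fixed by the centre. -/
abbrev Fz (z : ℕ) : Submodule ℂ V := Γ.Es z [] 0

theorem mem_Fz {z : ℕ} {v : V} :
    v ∈ Γ.Fz z ↔ ∀ t (h : Γ.X.x z t ∈ GT K q), Γ.π ⟨_, h⟩ v = v := by
  constructor
  · intro hv t h
    have := hv 0 (eqv_zero _) ⟨_, h⟩ ⟨t, by simp [pl, uEl]⟩
    simpa [pair] using this
  · intro h p _ g hg
    obtain ⟨t, ht⟩ := hg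
    have e : (g : ↥(chevE6.group K)) = Γ.X.x z t := by simpa [pl, uEl] using ht
    have hmem : Γ.X.x z t ∈ GT K q := e ▸ g.2
    rw [show g = ⟨_, hmem⟩ from Subtype.ext e, h t hmem]
    simp [pair]

theorem Fz_out {z : ℕ} (hz : 72 ≤ z) (v : V) : v ∈ Γ.Fz z := Γ.mem_Fz.2 fun t h => by
  rw [show (⟨_, h⟩ : ↥(GT K q)) = 1 from Subtype.ext (x_out Γ.X hz t), map_one]; rfl

theorem cls_zero {z : ℕ} {A : List ℕ} (t : K) : Cls Γ.X z A 0 (Γ.X.x z t) := by
  refine ⟨t, ?_⟩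
  rw [show uEl Γ.X (pl A 0) = 1 from List.prod_eq_one fun y hy => ?_, one_mul]
  obtain ⟨p, hp, rfl⟩ := List.mem_map.1 hy
  obtain ⟨r, -, rfl⟩ := List.mem_map.1 hp
  exact Γ.X.x_zero r

theorem Es_le_Fz {z : ℕ} {A : List ℕ} (m : ℕ → K) : Γ.Es z A m ≤ Γ.Fz z := fun v hv => Γ.mem_Fz.2 fun t h => by
  rw [hv 0 (eqv_zero _) ⟨_, h⟩ (Γ.cls_zero t), pair_zero, AddChar.map_zero_eq_one, one_smul]

/-- The representative of a function. -/
def rep {R : List ℕ} (hR : ∀ r ∈ R, r < 72) {p : ℕ → K} (hp : Eqv Γ.φ p) : ↥(GT K q) :=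
  ⟨uEl Γ.X (pl (orbL R) p), Γ.H.rep_mem Γ.X hR hp⟩

theorem cls_rep {z : ℕ} {R : List ℕ} (hR : ∀ r ∈ R, r < 72) {p : ℕ → K} (hp : Eqv Γ.φ p) :
    Cls Γ.X z (orbL R) p (Γ.rep hR hp) := ⟨0, by rw [Γ.X.x_zero, mul_one]; rfl⟩

/-- All elements of a class act alike on the vectors fixed by the centre. -/
theorem act_eq {z : ℕ} {A : List ℕ} {p : ℕ → K} {g h : ↥(GT K q)} (hg : Cls Γ.X z A p g)
    (hh : Cls Γ.X z A p h) {v : V} (hv : v ∈ Γ.Fz z) : Γ.π g v = Γ.π h v := by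
  obtain ⟨t, ht⟩ := hg
  obtain ⟨s, hs⟩ := hh
  have e : (g : ↥(chevE6.group K)) = h * Γ.X.x z (-s + t) := by
    rw [hs, mul_assoc, ← Γ.X.x_add, add_neg_cancel_left, ← ht]
  have hmem : Γ.X.x z (-s + t) ∈ GT K q := by
    have : (h : ↥(chevE6.group K))⁻¹ * g ∈ GT K q := mul_mem (inv_mem h.2) g.2
    rwa [e, inv_mul_cancel_left] at this
  rw [show g = h * ⟨_, hmem⟩ from Subtype.ext e, Γ.act_mul, Γ.mem_Fz.1 hv]

theorem cls_mul {z : ℕ} {A : List ℕ} (hA : Ab z A) {p p' : ℕ → K} {g g' : ↥(chevE6.group K)}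
    (h : Cls Γ.X z A p g) (h' : Cls Γ.X z A p' g') : Cls Γ.X z A (p + p') (g * g') := by
  have hA' : ∀ r ∈ A, r < 72 ∧ zok z r = true := fun r hr => ⟨hA.lt r hr, hA.zk r hr⟩
  obtain ⟨h1, e1⟩ := (cls_iff Γ.X hA').1 h
  obtain ⟨h1', e1'⟩ := (cls_iff Γ.X hA').1 h'
  exact (cls_iff Γ.X hA').2 ⟨mul_mem h1 h1', by rw [qm_mul Γ.X h1 h1', e1, e1', ev_add Γ.X hA]⟩

/-- Two lists commuting modulo the centre act commutingly on the vectors fixed by it. -/
theorem act_comm {z : ℕ} {A B : List ℕ} (hA : ∀ r ∈ A, r < 72 ∧ zok z r = true)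
    (hB : ∀ r ∈ B, r < 72 ∧ zok z r = true)
    (hc : ∀ r ∈ A, ∀ s ∈ B, s ≠ ng chevE6 r ∧ (sm E r s = none ∨ sm E r s = some z))
    {p p' : ℕ → K} {g h : ↥(GT K q)} (hg : Cls Γ.X z A p g) (hh : Cls Γ.X z B p' h) {v : V}
    (hv : v ∈ Γ.Fz z) : Γ.π g (Γ.π h v) = Γ.π h (Γ.π g v) := by
  obtain ⟨h1, e1⟩ := (cls_iff Γ.X hA).1 hg
  obtain ⟨h1', e1'⟩ := (cls_iff Γ.X hB).1 hh
  have hcomm : Commute (ev Γ.X z A p) (ev Γ.X z B p') := by
    refine Commute.list_prod_left _ _ fun y hy => ?_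
    obtain ⟨r, hr, rfl⟩ := List.mem_map.1 hy
    refine Commute.list_prod_right _ _ fun y' hy' => ?_
    obtain ⟨s, hs, rfl⟩ := List.mem_map.1 hy'
    have hr' := x_mem Γ.X (hA r hr).1 (hA r hr).2 (p r)
    have hs' := x_mem Γ.X (hB s hs).1 (hB s hs).2 (p' s)
    obtain ⟨n1, n2 | n2⟩ := hc r hr s hs
    · exact ((qm_mul Γ.X hs' hr').symm.trans
        (by rw [Γ.X.swap_none (hA r hr).1 (hB s hs).1 n1 n2, qm_mul Γ.X hr' hs'])).symm
    · refine ((qm_mul Γ.X hs' hr').symm.trans ?_).symm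
      rw [Γ.X.swap_some (hA r hr).1 (hB s hs).1 n1 n2, qm_mul Γ.X (mul_mem hr' hs') (z_mem Γ.X z _), qm_z, mul_one,
        qm_mul Γ.X hr' hs']
  have e : qm Γ.X z ((g : ↥(chevE6.group K)) * h) = qm Γ.X z ((h : ↥(chevE6.group K)) * g) := by
    rw [qm_mul Γ.X h1 h1', qm_mul Γ.X h1' h1, e1, e1', hcomm.eq]
  obtain ⟨t, ht⟩ := (qm_eq Γ.X (mul_mem h1 h1') (mul_mem h1' h1)).1 e
  have hmem : Γ.X.x z t ∈ GT K q := by
    have : ((h : ↥(chevE6.group K)) * g)⁻¹ * ((g : ↥(chevE6.group K)) * h) ∈ GT K q :=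
      mul_mem (inv_mem (mul_mem h.2 g.2)) (mul_mem g.2 h.2)
    rwa [ht, inv_mul_cancel_left] at this
  rw [← Γ.act_mul, ← Γ.act_mul, show g * h = h * g * ⟨_, hmem⟩ from Subtype.ext ht, Γ.act_mul,
    Γ.mem_Fz.1 hv]

/-- The characters of the functions following the twist are nondegenerate. -/
theorem nondeg {R : List ℕ} (hR : ∀ r ∈ R, r < 72) (_hnd : (orbL R).Nodup) {d : ℕ → K} (hd : Eqv Γ.φ d) {a : ℕ}
    (ha : a ∈ orbL R) (hne : d a ≠ 0) : ∃ p, Eqv Γ.φ p ∧ Γ.X.psi (pair (orbL R) d p) ≠ 1 := by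
  have ha' := orbL_lt hR ha
  by_cases hs : sg a = a
  · refine ⟨dl a (d a)⁻¹, eqv_dl _ hs (by rw [map_inv₀, hd.fix ha' hs]), ?_⟩
    rw [pair_comm, pair_dl ha, inv_mul_cancel₀ hne]
    exact Γ.X.psi_ne
  · obtain ⟨x, hx⟩ := Γ.H.exists_tr
    set t := x / d a with htd
    have hp : Eqv Γ.φ (fun r => dl a t r + dl (sg a) ((ep a : K) * Γ.φ t) r) := fun r hr => by
      simp only [Sop]
      by_cases e1 : r = a
      · subst e1
        rw [dl_self, dl_ne _ (Ne.symm hs), dl_ne _ hs, dl_self, zero_add, add_zero, map_mul, map_intCast,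
          Γ.H.h2, ← mul_assoc, ep_sq hr, one_mul]
      · by_cases e2 : r = sg a
        · subst e2
          rw [sg_sg ha', dl_self, dl_ne _ (Ne.symm hs), dl_ne _ hs, dl_self, zero_add, add_zero, ep_sg ha']
        · have e3 : sg r ≠ a := fun e => e2 (by rw [← e, sg_sg hr])
          have e4 : sg r ≠ sg a := fun e => e1 (by rw [← sg_sg hr, e, sg_sg ha'])
          rw [dl_ne _ e1, dl_ne _ e2, dl_ne _ e3, dl_ne _ e4]
          simp
    refine ⟨_, hp, ?_⟩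
    have e : pair (orbL R) d (fun r => dl a t r + dl (sg a) ((ep a : K) * Γ.φ t) r) = 1 := by
      rw [show (fun r => dl a t r + dl (sg a) ((ep a : K) * Γ.φ t) r) = dl a t + dl (sg a) ((ep a : K) * Γ.φ t)
        from rfl, pair_add, pair_comm, pair_dl ha, pair_comm _ d (dl (sg a) _), pair_dl (orbL_sg hR ha),
        hd.apply_sg ha', show (ep a : K) * Γ.φ t * ((ep a : K) * Γ.φ (d a)) =
          ((ep a : K) * ep a) * Γ.φ (t * d a) by rw [map_mul]; ring, ep_sq ha', one_mul, htd,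
        div_mul_cancel₀ x hne, hx]
    rw [e]; exact Γ.X.psi_ne

theorem uniq {z : ℕ} {R : List ℕ} (hR : ∀ r ∈ R, r < 72) (hnd : (orbL R).Nodup) {m m' : ℕ → K}
    (hm : Eqv Γ.φ m) (hm' : Eqv Γ.φ m') {v : V} (hv : v ≠ 0) (h : v ∈ Γ.Es z (orbL R) m)
    (h' : v ∈ Γ.Es z (orbL R) m') : ∀ r ∈ orbL R, m r = m' r := by
  intro a ha
  by_contra hne
  obtain ⟨p, hp, hp1⟩ := Γ.nondeg hR hnd (hm.add _ hm'.neg) ha
    (show m a + -m' a ≠ 0 by rwa [← sub_eq_add_neg, sub_ne_zero])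
  refine hp1 ?_
  have e := smul_left_injective ℂ hv ((h p hp _ (Γ.cls_rep hR hp)).symm.trans (h' p hp _ (Γ.cls_rep hR hp)))
  have hsum : pair (orbL R) (m + -m') p + pair (orbL R) m' p = pair (orbL R) m p := by
    rw [pair_comm _ (m + -m'), pair_comm _ m', pair_comm _ m, ← pair_add, neg_add_cancel_right]
  rw [← hsum, AddChar.map_add_eq_mul] at e
  exact (mul_eq_right₀ (AddChar.val_isUnit Γ.X.psi _).ne_zero).1 e

/-! ### Projections -/

noncomputable instance (R : List ℕ) : Fintype (FP Γ.φ R) := Fintype.ofFinite _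

/-- The projection to a character. -/
noncomputable def proj {R : List ℕ} (hR : ∀ r ∈ R, r < 72) (m : ℕ → K) : Module.End ℂ V :=
  (Fintype.card (FP Γ.φ R) : ℂ)⁻¹ •
    ∑ p : FP Γ.φ R, Γ.X.psi (-pair (orbL R) m (ext (p : Fin 72 → K))) • Γ.π (Γ.rep hR (FP.eqv p))

theorem proj_apply {R : List ℕ} (hR : ∀ r ∈ R, r < 72) (m : ℕ → K) (v : V) :
    Γ.proj hR m v = (Fintype.card (FP Γ.φ R) : ℂ)⁻¹ •
      ∑ p : FP Γ.φ R, Γ.X.psi (-pair (orbL R) m (ext (p : Fin 72 → K))) • Γ.π (Γ.rep hR (FP.eqv p)) v := by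
  simp [proj, LinearMap.sum_apply]

theorem proj_mem {R : List ℕ} (hR : ∀ r ∈ R, r < 72) (m : ℕ → K) {W : Submodule ℂ V} {v : V}
    (h : ∀ p (hp : Eqv Γ.φ p), Γ.π (Γ.rep hR hp) v ∈ W) : Γ.proj hR m v ∈ W := by
  rw [proj_apply]
  exact W.smul_mem _ (W.sum_mem fun p _ => W.smul_mem _ (h _ _))

theorem proj_Es {z : ℕ} {R : List ℕ} (hR : ∀ r ∈ R, r < 72) (hA : Ab z (orbL R)) (m : ℕ → K) {v : V}
    (hv : v ∈ Γ.Fz z) : Γ.proj hR m v ∈ Γ.Es z (orbL R) m := by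
  intro p hp g hg
  set p0 : FP Γ.φ R := res hR hp with hp0
  have hpe : ∀ r ∈ orbL R, p r = ext (p0 : Fin 72 → K) r := fun r hr => by rw [hp0, ext_res, if_pos hr]
  rw [proj_apply, map_smul, map_sum, smul_comm (Γ.X.psi _)]
  congr 1
  rw [Finset.smul_sum]
  refine Fintype.sum_equiv (Equiv.addLeft p0) _ _ fun x => ?_
  rw [map_smul, ← Γ.act_mul, Equiv.coe_addLeft, smul_smul, ← AddChar.map_add_eq_mul]
  rw [Γ.act_eq (h := Γ.rep hR (FP.eqv (p0 + x)))
    (cls_congr Γ.X (fun r hr => by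
      rw [Pi.add_apply, hpe r hr, ext_add]; rfl) (Γ.cls_mul hA hg (Γ.cls_rep hR (FP.eqv x))))
    (Γ.cls_rep hR (FP.eqv (p0 + x))) hv]
  congr 2
  have e : pair (orbL R) m (ext ((p0 + x : FP Γ.φ R) : Fin 72 → K)) =
      pair (orbL R) m p + pair (orbL R) m (ext (x : Fin 72 → K)) := by
    rw [ext_add, pair_add, pair_congr (p := p) (p' := ext (p0 : Fin 72 → K)) (fun _ _ => rfl) hpe]
  rw [e]; ring

theorem psi_sum {R : List ℕ} (hR : ∀ r ∈ R, r < 72) (hnd : (orbL R).Nodup) (p : FP Γ.φ R) [Decidable (p = 0)] :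
    ∑ m : FP Γ.φ R, Γ.X.psi (pair (orbL R) (ext (m : Fin 72 → K)) (ext (p : Fin 72 → K))) =
      if p = 0 then (Fintype.card (FP Γ.φ R) : ℂ) else 0 := by
  let χ : AddChar (FP Γ.φ R) ℂ :=
    { toFun := fun m => Γ.X.psi (pair (orbL R) (ext (m : Fin 72 → K)) (ext (p : Fin 72 → K)))
      map_zero_eq_one' := by rw [pair_comm, ext_zero, pair_zero, AddChar.map_zero_eq_one]
      map_add_eq_mul' := fun a b => by
        rw [← AddChar.map_add_eq_mul, pair_comm, ext_add, pair_add, pair_comm, pair_comm _ (ext (p : Fin 72 → K))] }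
  show ∑ m, χ m = _
  split_ifs with h
  · subst h
    rw [Finset.sum_congr rfl (fun m _ => show χ m = 1 by
      show Γ.X.psi _ = 1; rw [ext_zero, pair_zero, AddChar.map_zero_eq_one])]
    simp
  · refine AddChar.sum_eq_zero_iff_ne_zero.2 fun e => h (FP.ext_eq fun a ha => ?_)
    rw [ext_zero, Pi.zero_apply]
    by_contra hne
    obtain ⟨m, hm, hm1⟩ := Γ.nondeg hR hnd (FP.eqv p) ha hne
    refine hm1 ?_
    have e1 := DFunLike.congr_fun e (res hR hm)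
    rw [AddChar.zero_apply] at e1
    simp only [χ, AddChar.coe_mk] at e1
    rw [← e1, pair_comm]
    congr 1
    exact pair_congr (fun r hr => by rw [ext_res, if_pos hr]) fun _ _ => rfl

theorem sum_proj {z : ℕ} {R : List ℕ} (hR : ∀ r ∈ R, r < 72) (hnd : (orbL R).Nodup) {v : V}
    (hv : v ∈ Γ.Fz z) : ∑ m : FP Γ.φ R, Γ.proj hR (ext (m : Fin 72 → K)) v = v := by
  classical
  simp only [proj_apply]
  rw [← Finset.smul_sum, Finset.sum_comm]
  simp only [← Finset.sum_smul]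
  have e : ∀ p : FP Γ.φ R, ∑ m : FP Γ.φ R, Γ.X.psi (-pair (orbL R) (ext (m : Fin 72 → K)) (ext (p : Fin 72 → K))) =
      if p = 0 then (Fintype.card (FP Γ.φ R) : ℂ) else 0 := fun p => by
    have h := Γ.psi_sum hR hnd (-p)
    simp only [neg_eq_zero] at h
    rw [← h]
    refine Finset.sum_congr rfl fun m _ => ?_
    congr 1
    rw [pair, pair, ← Finset.sum_neg_distrib]
    refine Finset.sum_congr rfl fun r _ => ?_
    unfold ext; split_ifs <;> simp
  simp only [e, ite_smul, zero_smul, Finset.sum_ite_eq', Finset.mem_univ, if_true]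
  rw [smul_smul, inv_mul_cancel₀ (Nat.cast_ne_zero.2 Fintype.card_ne_zero), one_smul]
  rw [Γ.act_eq (Γ.cls_rep hR (FP.eqv (0 : FP Γ.φ R))) (h := 1) ?_ hv, map_one]
  · rfl
  · refine cls_congr Γ.X (p := 0) (fun r _ => by rw [ext_zero]) ?_
    rw [OneMemClass.coe_one, ← Γ.X.x_zero z]
    exact Γ.cls_zero 0

theorem proj_of_Es {z : ℕ} {R : List ℕ} (hR : ∀ r ∈ R, r < 72) (hnd : (orbL R).Nodup) {m m' : ℕ → K}
    (hm : Eqv Γ.φ m) (hm' : Eqv Γ.φ m') {v : V} (hv : v ∈ Γ.Es z (orbL R) m')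
    [Decidable (∀ r ∈ orbL R, m r = m' r)] :
    Γ.proj hR m v = if ∀ r ∈ orbL R, m r = m' r then v else 0 := by
  classical
  set d : FP Γ.φ R := res hR (hm'.add _ hm.neg) with hd
  have h := Γ.psi_sum hR hnd d
  have e : ∀ p : FP Γ.φ R, Γ.X.psi (-pair (orbL R) m (ext (p : Fin 72 → K))) • Γ.π (Γ.rep hR (FP.eqv p)) v =
      Γ.X.psi (pair (orbL R) (ext (p : Fin 72 → K)) (ext (d : Fin 72 → K))) • v := fun p => by
    rw [hv _ (FP.eqv p) _ (Γ.cls_rep hR (FP.eqv p)), smul_smul, ← AddChar.map_add_eq_mul]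
    congr 2
    simp only [pair, ← Finset.sum_neg_distrib, ← Finset.sum_add_distrib]
    refine Finset.sum_congr rfl fun r hr => ?_
    rw [hd, ext_res, if_pos (List.mem_toFinset.1 hr), Pi.add_apply, Pi.neg_apply]
    ring
  rw [proj_apply, Finset.sum_congr rfl fun p _ => e p, ← Finset.sum_smul, h, smul_smul]
  have hiff : d = 0 ↔ ∀ r ∈ orbL R, m r = m' r := by
    constructor
    · intro e0 r hr
      have h1 := congrArg (fun f : FP Γ.φ R => ext (f : Fin 72 → K) r) e0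
      simp only [hd, ext_res, if_pos hr, ext_zero, Pi.add_apply, Pi.neg_apply, Pi.zero_apply] at h1
      linear_combination -h1
    · intro h0
      exact FP.ext_eq fun r hr => by rw [hd, ext_res, if_pos hr, ext_zero, Pi.add_apply, Pi.neg_apply, h0 r hr]; simp
  by_cases h0 : d = 0
  · rw [if_pos h0, if_pos (hiff.1 h0), inv_mul_cancel₀ (Nat.cast_ne_zero.2 Fintype.card_ne_zero), one_smul]
  · rw [if_neg h0, if_neg (fun e => h0 (hiff.2 e)), mul_zero, zero_smul]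

/-- A nonzero vector has a component. -/
theorem exists_comp {z : ℕ} {R : List ℕ} (hR : ∀ r ∈ R, r < 72) (hA : Ab z (orbL R)) {v : V}
    (hv : v ∈ Γ.Fz z) (hne : v ≠ 0) :
    ∃ m, Eqv Γ.φ m ∧ Γ.proj hR m v ≠ 0 ∧ Γ.proj hR m v ∈ Γ.Es z (orbL R) m := by
  by_contra hcon
  push Not at hcon
  refine hne ?_
  rw [← Γ.sum_proj hR hA.nd hv]
  exact Finset.sum_eq_zero fun m _ => by_contra fun h => hcon _ (FP.eqv m) h (Γ.proj_Es hR hA _ hv)

/-- A vector all of whose other components vanish is an eigenvector. -/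
theorem mem_Es_of_comp {z : ℕ} {R : List ℕ} (hR : ∀ r ∈ R, r < 72) (hA : Ab z (orbL R)) {v : V}
    (hv : v ∈ Γ.Fz z) {m₀ : ℕ → K}
    (h : ∀ m, Eqv Γ.φ m → Γ.proj hR m v ≠ 0 → ∀ r ∈ orbL R, m r = m₀ r) : v ∈ Γ.Es z (orbL R) m₀ := by
  rw [← Γ.sum_proj hR hA.nd hv]
  refine Submodule.sum_mem _ fun m _ => ?_
  by_cases h0 : Γ.proj hR (ext (m : Fin 72 → K)) v = 0
  · rw [h0]; exact Submodule.zero_mem _
  · rw [← Γ.Es_congr (h _ (FP.eqv m) h0)]
    exact Γ.proj_Es hR hA _ hv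

/-- Subspaces with different characters are independent. -/
theorem sep [FiniteDimensional ℂ V] {ι : Type*} [Fintype ι] {z : ℕ} {R : List ℕ} (hR : ∀ r ∈ R, r < 72)
    (hnd : (orbL R).Nodup) (m : ι → ℕ → K) (hm : ∀ i, Eqv Γ.φ (m i))
    (W : ι → Submodule ℂ V) (Y : Submodule ℂ V) (hW : ∀ i, W i ≤ Γ.Es z (orbL R) (m i) ⊓ Y)
    (hinj : ∀ i j, (∀ r ∈ orbL R, m i r = m j r) → i = j) :
    ∑ i, finrank ℂ (W i) ≤ finrank ℂ Y := by
  classical
  let f : (∀ i, W i) →ₗ[ℂ] Y := LinearMap.codRestrict Y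
    (∑ i, (W i).subtype ∘ₗ LinearMap.proj i) (fun v => by
      simp only [LinearMap.sum_apply]
      exact Y.sum_mem fun i _ => (hW i (v i).2).2)
  have hf : Function.Injective f := by
    refine (injective_iff_map_eq_zero f).2 fun v hv => funext fun i => Subtype.ext ?_
    have h : (f v : V) = 0 := by rw [hv]; rfl
    simp only [f, LinearMap.codRestrict_apply, LinearMap.sum_apply, LinearMap.comp_apply, LinearMap.proj_apply,
      Submodule.subtype_apply] at h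
    have h2 := congrArg (Γ.proj hR (m i)) h
    rw [map_sum, map_zero, Finset.sum_eq_single i, Γ.proj_of_Es hR hnd (hm i) (hm i) (hW i (v i).2).1,
      if_pos fun _ _ => rfl] at h2
    · exact h2
    · intro j _ hj
      rw [Γ.proj_of_Es hR hnd (hm i) (hm j) (hW j (v j).2).1, if_neg fun e => hj (hinj i j e).symm]
    · exact fun h => absurd (Finset.mem_univ i) h
  have := LinearMap.finrank_le_finrank_of_injective hf
  rwa [Module.finrank_pi_fintype] at this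

end Ctx

end Cfsg.Agent.Lib.TE6Deg41
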