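import Cfsg.Agent.Lib.TE6Deg41.Cert
import Cfsg.Agent.Lib.Twisted.Core.E6Group

/-!
Functions on the roots which follow the twist, and their moves.
-/

set_option autoImplicit false

namespace Cfsg.Agent.Lib.TE6Deg41

open Cfsg.Lie Cfsg.Agent.Lib.Chev Cfsg.Agent.Lib.E6Deg41
open Cfsg.Agent.Lib.E6Deg41.Setup (shM shM_some shM_keep)

variable {K : Type*} [Field K]

/-- The data of `S2341`. -/
structure Hyp (K : Type*) [Field K] [Fintype K] (q : ℕ) (φ : K ≃+* K) : Prop where
  hq : IsPrimePow q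
  hK : Fintype.card K = q ^ 2
  hφ : ∀ t, φ t = t ^ q
  h2 : ∀ t, φ (φ t) = t

/-- The symmetry on functions. -/
def Sop (φ : K ≃+* K) (m : ℕ → K) (r : ℕ) : K := (ep r : K) * φ (m (sg r))

/-- The function follows the twist. -/
def Eqv (φ : K ≃+* K) (m : ℕ → K) : Prop := ∀ r < 72, Sop φ m r = m r

/-- The composite of single moves. -/
def shW : List (ℕ × K) → (ℕ → K) → ℕ → K
  | [], m => m
  | p :: w, m => shM E p.1 p.2 (shW w m)

theorem ep_ne {r : ℕ} (hr : r < 72) : (ep r : K) ≠ 0 := by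
  rcases ep_cases hr with e | e <;> simp [e]

theorem ep_sq {r : ℕ} (hr : r < 72) : (ep r : K) * ep r = 1 := by
  rcases ep_cases hr with e | e <;> simp [e]

theorem ep_sg {r : ℕ} (hr : r < 72) : (ep (sg r) : K) = ep r := by
  have h : (ep r : K) * ep (sg r) = 1 := by rw [← Int.cast_mul, ep_mul hr, Int.cast_one]
  exact mul_left_cancel₀ (ep_ne hr) (h.trans (ep_sq hr).symm)

theorem Eqv.apply_sg {φ : K ≃+* K} {m : ℕ → K} (h : Eqv φ m) {r : ℕ} (hr : r < 72) :
    m (sg r) = (ep r : K) * φ (m r) := by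
  have := h (sg r) (sg_lt hr)
  rw [Sop, sg_sg hr, ep_sg hr] at this
  exact this.symm

theorem Eqv.fix {φ : K ≃+* K} {m : ℕ → K} (h : Eqv φ m) {r : ℕ} (hr : r < 72) (hs : sg r = r) :
    φ (m r) = m r := by
  have := h.apply_sg hr
  rw [hs, ep_fix hr hs, Int.cast_one, one_mul] at this
  exact this.symm

variable (φ : K ≃+* K)

theorem eqv_zero : Eqv φ (0 : ℕ → K) := fun r _ => by simp [Sop]

theorem Eqv.add {m n : ℕ → K} (h : Eqv φ m) (h' : Eqv φ n) : Eqv φ (m + n) := fun r hr => by
  simp only [Sop, Pi.add_apply, map_add, mul_add]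
  exact congrArg₂ (· + ·) (h r hr) (h' r hr)

theorem Eqv.neg {m : ℕ → K} (h : Eqv φ m) : Eqv φ (-m) := fun r hr => by
  simp only [Sop, Pi.neg_apply, map_neg, mul_neg]
  exact congrArg Neg.neg (h r hr)

theorem eqv_dl {β : ℕ} (hs : sg β = β) {t : K} (ht : φ t = t) : Eqv φ (dl β t) := fun r hr => by
  by_cases e : r = β
  · subst e; simp [Sop, hs, dl_self, ht, ep_fix hr hs]
  · rw [dl_ne _ e, Sop, dl_ne, map_zero, mul_zero]
    intro e'; exact e (by rw [← sg_sg hr, e', hs])

/-! ### Linearity -/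

theorem shM_lin (η : ℕ) (t c : K) (f g : ℕ → K) (r : ℕ) :
    shM E η t (fun b => c * f b + g b) r = c * shM E η t f r + shM E η t g r := by
  unfold shM
  rcases sm E η r with _ | a
  · rfl
  · simp only; ring

theorem shM_congr {η : ℕ} (t : K) {f g : ℕ → K} {r : ℕ} (h : f r = g r)
    (h' : ∀ a, sm E η r = some a → f a = g a) : shM E η t f r = shM E η t g r := by
  unfold shM
  rcases hs : sm E η r with _ | a
  · exact h
  · simp only [h, h' a hs]

theorem shW_lin : ∀ (w : List (ℕ × K)) (c : K) (f g : ℕ → K) (r : ℕ),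
    shW w (fun b => c * f b + g b) r = c * shW w f r + shW w g r
  | [], _, _, _, _ => rfl
  | p :: w, c, f, g, r => by
    simp only [shW]
    rw [show shW w (fun b => c * f b + g b) = fun b => c * shW w f b + shW w g b from funext (shW_lin w c f g)]
    exact shM_lin _ _ _ _ _ _

theorem shW_zero : ∀ (w : List (ℕ × K)) (r : ℕ), shW w (0 : ℕ → K) r = 0
  | [], _ => rfl
  | p :: w, r => by
    simp only [shW]
    exact (shM_keep (m := shW w 0) (fun a _ => shW_zero w a) _).trans (shW_zero w r)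

theorem shW_append : ∀ (w w' : List (ℕ × K)) (m : ℕ → K), shW (w ++ w') m = shW w (shW w' m)
  | [], _, _ => rfl
  | p :: w, w', m => by simp only [List.cons_append, shW, shW_append w w']

theorem shW_smul (w : List (ℕ × K)) (c : K) (f : ℕ → K) (r : ℕ) :
    shW w (fun b => c * f b) r = c * shW w f r := by
  have := shW_lin w c f 0 r
  simp only [Pi.zero_apply, add_zero, shW_zero] at this
  exact this

/-- The list is closed under the move. -/
def chkCl (A : List ℕ) (e : ℕ) : Bool := Nat.blt e 72 && A.all fun r => into E e r A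

theorem chkCl_iff {A : List ℕ} {e : ℕ} : chkCl A e = true ↔ e < 72 ∧ ∀ r ∈ A, ∀ a, sm E e r = some a → a ∈ A := by
  simp [chkCl, List.all_eq_true, Setup.into_iff]

theorem shW_congr {A : List ℕ} : ∀ (w : List (ℕ × K)), (∀ p ∈ w, chkCl A p.1 = true) →
    ∀ {f g : ℕ → K}, (∀ r ∈ A, f r = g r) → ∀ r ∈ A, shW w f r = shW w g r
  | [], _, _, _, h => h
  | p :: w, hw, f, g, h => fun r hr => by
    have ih := shW_congr w (fun p' hp' => hw p' (List.mem_cons_of_mem _ hp')) h
    exact shM_congr _ (ih r hr) fun a ha => ih a ((chkCl_iff.1 (hw p List.mem_cons_self)).2 r hr a ha)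

/-! ### The symmetry and the moves -/

variable {φ}

theorem sop_shM {η : ℕ} (hη : η < 72) (t : K) (m : ℕ → K) {r : ℕ} (hr : r < 72) :
    Sop φ (shM E η t m) r = shM E (sg η) ((ep η : K) * φ t) (Sop φ m) r := by
  have hsr := sg_lt hr
  have hmap := sm_sg hη hsr
  rw [sg_sg hr] at hmap
  unfold Sop shM
  rcases h : sm E η (sg r) with _ | a
  · rw [h] at hmap
    simp [hmap]
  · rw [h] at hmap
    obtain ⟨ha, hN⟩ := sm_some hη hsr h
    rw [sg_sg hr] at hN
    simp only [hmap, Option.map_some, sg_sg ha, map_sub, map_mul, map_intCast, hN, Int.cast_mul, ep_sg hr,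
      ep_sg ha]
    have e1 := ep_sq (K := K) hη
    have e2 := ep_sq (K := K) hr
    have e3 := ep_sq (K := K) ha
    linear_combination ((ep r : K) * (Nc E η (sg r) : K) * φ t * φ (m a) * ((ep a : K) * ep a)) * e1 +
      ((ep r : K) * (Nc E η (sg r) : K) * φ t * φ (m a)) * e3

theorem shM_comm {e : ℕ} (he : e < 72) (hne : sg e ≠ e) (s u : K) (m : ℕ → K) {r : ℕ} (hr : r < 72) :
    shM E e s (shM E (sg e) u m) r = shM E (sg e) u (shM E e s m) r := by
  have h := (pair_facts he hne).2.2 r hr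
  unfold sc at h
  unfold shM
  rcases h1 : sm E e r with _ | a <;> rcases h2 : sm E (sg e) r with _ | b <;>
    simp only [h1, h2, Option.bind_none, Option.bind_some] at h ⊢
  · rcases h3 : sm E e b with _ | c
    · rfl
    · simp [h3] at h
  · rcases h3 : sm E (sg e) a with _ | c
    · rfl
    · simp [h3] at h
  · rcases h3 : sm E (sg e) a with _ | c <;> rcases h4 : sm E e b with _ | d <;> simp only [h3, h4] at h ⊢
    · ring
    · simp at h
    · simp at h
    · simp only [Option.map_some, Option.some.injEq, Prod.mk.injEq] at h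
      obtain ⟨rfl, h⟩ := h
      have h' : (Nc E e r : K) * Nc E (sg e) a = (Nc E (sg e) r : K) * Nc E e b := by
        have := congrArg (Int.cast : ℤ → K) h; push_cast at this; exact this
      linear_combination (s * u * m c) * h'

/-- An orbit block. -/
def blk (φ : K ≃+* K) (p : ℕ × K) : List (ℕ × K) :=
  if sg p.1 = p.1 then [p] else [p, (sg p.1, (ep p.1 : K) * φ p.2)]

/-- An admissible block. -/
def okB (φ : K ≃+* K) (p : ℕ × K) : Prop := p.1 < 72 ∧ (sg p.1 = p.1 → φ p.2 = p.2)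

variable (h2 : ∀ t, φ (φ t) = t)
include h2

theorem sop_blk {p : ℕ × K} (hp : okB φ p) (m : ℕ → K) {r : ℕ} (hr : r < 72) :
    Sop φ (shW (blk φ p) m) r = shW (blk φ p) (Sop φ m) r := by
  obtain ⟨e, s⟩ := p
  obtain ⟨he, hs⟩ := hp
  simp only [blk]
  split_ifs with h
  · simp only [shW]
    rw [sop_shM he _ _ hr, h, ep_fix he h, Int.cast_one, one_mul, hs h]
  · simp only [shW]
    rw [sop_shM he _ _ hr]
    have h1 : ∀ a < 72, Sop φ (shM E (sg e) ((ep e : K) * φ s) m) a = shM E e s (Sop φ m) a := fun a ha => by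
      rw [sop_shM (sg_lt he) _ _ ha, sg_sg he, ep_sg he, map_mul, map_intCast, h2, ← mul_assoc, ep_sq he, one_mul]
    rw [shM_congr (g := shM E e s (Sop φ m)) _ (h1 r hr) fun a ha => h1 a (sm_some (sg_lt he) hr ha).1]
    exact (shM_comm he h _ _ _ hr).symm

theorem sop_shW : ∀ (l : List (ℕ × K)), (∀ p ∈ l, okB φ p) → ∀ (m : ℕ → K) {r : ℕ}, r < 72 →
    Sop φ (shW (l.flatMap (blk φ)) m) r = shW (l.flatMap (blk φ)) (Sop φ m) r
  | [], _, _, _, _ => rfl
  | p :: l, hl, m, r, hr => by
    simp only [List.flatMap_cons, shW_append]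
    rw [sop_blk h2 (hl p List.mem_cons_self) _ hr]
    refine shW_congr (A := List.range 72) _ (fun p' hp' => ?_) (fun a ha => ?_) r (List.mem_range.2 hr)
    · have hlt : p'.1 < 72 := by
        have h0 := (hl p List.mem_cons_self).1
        unfold blk at hp'
        split_ifs at hp' <;> simp at hp'
        · rw [hp']; exact h0
        · rcases hp' with e | e <;> rw [e]
          · exact h0
          · exact sg_lt h0
      exact chkCl_iff.2 ⟨hlt, fun a ha b hb => List.mem_range.2 (sm_some hlt (List.mem_range.1 ha) hb).1⟩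
    · exact sop_shW l (fun p' hp' => hl p' (List.mem_cons_of_mem _ hp')) m (List.mem_range.1 ha)

theorem Eqv.shW {m : ℕ → K} (hm : Eqv φ m) {l : List (ℕ × K)} (hl : ∀ p ∈ l, okB φ p) :
    Eqv φ (shW (l.flatMap (blk φ)) m) := fun r hr => by
  rw [sop_shW h2 l hl m hr]
  have hlt : ∀ p' ∈ l.flatMap (blk φ), p'.1 < 72 := fun p' hp' => by
    obtain ⟨p, hp, hp'⟩ := List.mem_flatMap.1 hp'
    unfold blk at hp'
    split_ifs at hp' <;> simp at hp'
    · rw [hp']; exact (hl p hp).1
    · rcases hp' with e | e <;> rw [e]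
      · exact (hl p hp).1
      · exact sg_lt (hl p hp).1
  exact shW_congr _ (fun p' hp' => chkCl_iff.2 ⟨hlt p' hp', fun a ha b hb =>
    List.mem_range.2 (sm_some (hlt p' hp') (List.mem_range.1 ha) hb).1⟩)
    (fun a ha => hm a (List.mem_range.1 ha)) r (List.mem_range.2 hr)

end Cfsg.Agent.Lib.TE6Deg41
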