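import Cfsg.Agent.Lib.TE6Deg41.Fun

/-!
Products of root elements modulo a central root subgroup, inside `E₆(K)` and inside the twisted group.
-/

set_option autoImplicit false

namespace Cfsg.Agent.Lib.TE6Deg41

open Cfsg.Lie Cfsg.Agent.Lib.Chev Cfsg.Agent.Lib.E6Deg41 Cfsg.Agent.Lib.ChevOver
open Cfsg.Agent.Lib.E6Deg41.Setup (shM shM_some shM_keep)

variable {K : Type*} [Field K]

/-- The root data over the larger field. -/
abbrev XK (K : Type*) [Field K] := Setup chevE6 E K

/-- The pairing on a list. -/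
def pair (A : List ℕ) (m p : ℕ → K) : K := ∑ r ∈ A.toFinset, m r * p r

/-- The transpose of a move. -/
def Tw (A : List ℕ) (w : List (ℕ × K)) (p : ℕ → K) (a : ℕ) : K :=
  if a ∈ A then pair A (shW w (dl a 1)) p else 0

/-- A list of parameters along the roots. -/
def pl (A : List ℕ) (p : ℕ → K) : List (ℕ × K) := A.map fun r => (r, p r)

theorem pair_congr {A : List ℕ} {m m' p p' : ℕ → K} (hm : ∀ r ∈ A, m r = m' r) (hp : ∀ r ∈ A, p r = p' r) :
    pair A m p = pair A m' p' :=
  Finset.sum_congr rfl fun r hr => by rw [hm r (List.mem_toFinset.1 hr), hp r (List.mem_toFinset.1 hr)]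

theorem pair_comm (A : List ℕ) (m p : ℕ → K) : pair A m p = pair A p m :=
  Finset.sum_congr rfl fun r _ => mul_comm _ _

theorem pair_add (A : List ℕ) (m p p' : ℕ → K) : pair A m (p + p') = pair A m p + pair A m p' := by
  simp [pair, mul_add, Finset.sum_add_distrib]

theorem pair_zero (A : List ℕ) (m : ℕ → K) : pair A m 0 = 0 := by simp [pair]

theorem pair_dl {A : List ℕ} {a : ℕ} (ha : a ∈ A) (c : K) (p : ℕ → K) : pair A (dl a c) p = c * p a := by
  rw [pair, Finset.sum_eq_single a]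
  · rw [dl_self]
  · intro b _ hb; rw [dl_ne _ hb, zero_mul]
  · intro h; exact absurd (List.mem_toFinset.2 ha) h

theorem shW_sum (w : List (ℕ × K)) (S : Finset ℕ) (c : ℕ → K) (f : ℕ → ℕ → K) (r : ℕ) :
    shW w (fun b => ∑ a ∈ S, c a * f a b) r = ∑ a ∈ S, c a * shW w (f a) r := by
  induction S using Finset.induction_on with
  | empty => simp only [Finset.sum_empty]; exact shW_zero w r
  | insert a S ha ih =>
    simp only [Finset.sum_insert ha]
    rw [shW_lin w (c a) (f a) (fun b => ∑ x ∈ S, c x * f x b) r, ih]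

theorem pair_Tw {A : List ℕ} {w : List (ℕ × K)} (hw : ∀ p ∈ w, chkCl A p.1 = true) (m p : ℕ → K) :
    pair A m (Tw A w p) = pair A (shW w m) p := by
  unfold pair
  calc ∑ a ∈ A.toFinset, m a * Tw A w p a
      = ∑ a ∈ A.toFinset, ∑ r ∈ A.toFinset, m a * shW w (dl a 1) r * p r :=
        Finset.sum_congr rfl fun a ha => by
          rw [Tw, if_pos (List.mem_toFinset.1 ha), pair, Finset.mul_sum]
          exact Finset.sum_congr rfl fun r _ => by ring
    _ = ∑ r ∈ A.toFinset, ∑ a ∈ A.toFinset, m a * shW w (dl a 1) r * p r := Finset.sum_comm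
    _ = _ := Finset.sum_congr rfl fun r hr => by
      rw [← Finset.sum_mul, ← shW_sum]
      congr 1
      refine shW_congr w hw (fun b hb => ?_) r (List.mem_toFinset.1 hr)
      rw [Finset.sum_eq_single b]
      · rw [dl_self, mul_one]
      · intro a _ ha; rw [dl_ne _ (Ne.symm ha), mul_zero]
      · intro h; exact absurd (List.mem_toFinset.2 hb) h

theorem Tw_cons {A : List ℕ} {e : ℕ × K} {w : List (ℕ × K)} (hw : ∀ p ∈ e :: w, chkCl A p.1 = true)
    (p : ℕ → K) {a : ℕ} (ha : a ∈ A) : Tw A (e :: w) p a = Tw A w (Tw A [e] p) a := by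
  simp only [Tw, if_pos ha]
  exact (pair_Tw (A := A) (w := [e]) (by simpa using hw e List.mem_cons_self) (shW w (dl a 1)) p).symm

variable {φ : K ≃+* K} (h2 : ∀ t, φ (φ t) = t)
include h2

theorem eqv_Tw {R : List ℕ} (hR : ∀ r ∈ R, r < 72) {l : List (ℕ × K)} (hl : ∀ p ∈ l, okB φ p) {p : ℕ → K}
    (hp : Eqv φ p) : Eqv φ (Tw (orbL R) (l.flatMap (blk φ)) p) := by
  intro a ha
  unfold Sop Tw
  by_cases hA : a ∈ orbL R
  · rw [if_pos hA, if_pos (orbL_sg hR hA)]
    unfold pair
    rw [map_sum, Finset.mul_sum]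
    refine Finset.sum_nbij' (fun r => sg r) (fun r => sg r)
      (fun r hr => List.mem_toFinset.2 (orbL_sg hR (List.mem_toFinset.1 hr)))
      (fun r hr => List.mem_toFinset.2 (orbL_sg hR (List.mem_toFinset.1 hr)))
      (fun r hr => sg_sg (orbL_lt hR (List.mem_toFinset.1 hr)))
      (fun r hr => sg_sg (orbL_lt hR (List.mem_toFinset.1 hr))) (fun r hr => ?_)
    have hr' := orbL_lt hR (List.mem_toFinset.1 hr)
    have hsr := sg_lt hr'
    have e1 : shW (l.flatMap (blk φ)) (dl a (1 : K)) (sg r) =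
        (ep a : K) * ((ep r : K) * φ (shW (l.flatMap (blk φ)) (dl (sg a) 1) r)) := by
      have h := sop_shW h2 l hl (dl (sg a) 1) hsr
      rw [Sop, sg_sg hr', ep_sg hr'] at h
      rw [h, ← shW_smul]
      refine shW_congr (A := List.range 72) _ (fun q hq => ?_) (fun b hb => ?_) (sg r) (List.mem_range.2 hsr)
      · obtain ⟨q', hq', hqb⟩ := List.mem_flatMap.1 hq
        have hlt : q.1 < 72 := by
          unfold blk at hqb
          split_ifs at hqb <;> simp at hqb
          · rw [hqb]; exact (hl q' hq').1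
          · rcases hqb with e | e <;> rw [e]
            · exact (hl q' hq').1
            · exact sg_lt (hl q' hq').1
        exact chkCl_iff.2 ⟨hlt, fun x hx y hy => List.mem_range.2 (sm_some hlt (List.mem_range.1 hx) hy).1⟩
      · have hb' := List.mem_range.1 hb
        by_cases e : b = a
        · subst e; simp [Sop, dl_self, ep_sq hb']
        · rw [dl_ne _ e, Sop, dl_ne, map_zero, mul_zero, mul_zero]
          intro e'; exact e (by rw [← sg_sg hb', e', sg_sg ha])
    rw [e1, hp.apply_sg hr', map_mul]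
    have e := ep_sq (K := K) hr'
    linear_combination (-(ep a : K) * φ (shW (l.flatMap (blk φ)) (dl (sg a) 1) r) * φ (p r)) * e
  · rw [if_neg hA, if_neg, map_zero, mul_zero]
    intro h; exact hA (sg_sg ha ▸ orbL_sg hR h)

omit h2

/-! ### Products of root elements -/

variable (X : XK K)

/-- The product of root elements. -/
def uEl (w : List (ℕ × K)) : ↥(chevE6.group K) := (w.map fun p => X.x p.1 p.2).prod

theorem uEl_nil : uEl X [] = 1 := rfl

theorem uEl_cons (p : ℕ × K) (w : List (ℕ × K)) : uEl X (p :: w) = X.x p.1 p.2 * uEl X w := rfl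

theorem uEl_append (w w' : List (ℕ × K)) : uEl X (w ++ w') = uEl X w * uEl X w' := by
  simp [uEl]

theorem x_out {z : ℕ} (hz : 72 ≤ z) (t : K) : X.x z t = 1 :=
  Subtype.ext (by simp [Setup.x, xg, show ¬z < chevE6.nroots by show ¬z < 72; omega])

/-- The class of an element modulo the centre `z`. -/
def Cls (z : ℕ) (A : List ℕ) (p : ℕ → K) (g : ↥(chevE6.group K)) : Prop :=
  ∃ t, g = uEl X (pl A p) * X.x z t

/-- The centraliser of the root subgroup `z`. -/
def Mz (z : ℕ) : Subgroup ↥(chevE6.group K) := Subgroup.centralizer (Set.range (X.x z))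

theorem z_mem (z : ℕ) (t : K) : X.x z t ∈ Mz X z := Subgroup.mem_centralizer_iff.2 fun g hg => by
  obtain ⟨s, rfl⟩ := hg
  rw [← X.x_add, ← X.x_add, add_comm]

theorem x_mem {z r : ℕ} (hr : r < 72) (h : zok z r = true) (t : K) : X.x r t ∈ Mz X z :=
  Subgroup.mem_centralizer_iff.2 fun g hg => by
    obtain ⟨s, rfl⟩ := hg
    rcases zok_iff.1 h with hz | ⟨h1, h3⟩
    · simp [x_out X hz]
    · by_cases hz : z < 72
      · exact X.swap_none hr hz h1 h3 t s
      · simp [x_out X (not_lt.1 hz)]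

/-- The root subgroup `z` inside its centraliser. -/
def zHom (z : ℕ) : Multiplicative K →* ↥(Mz X z) where
  toFun t := ⟨X.x z t.toAdd, z_mem X z _⟩
  map_one' := Subtype.ext (X.x_zero z)
  map_mul' s t := Subtype.ext (X.x_add z _ _)

instance (z : ℕ) : (zHom X z).range.Normal :=
  ⟨fun n hn g => by
    obtain ⟨t, rfl⟩ := hn
    have h : g * zHom X z t = zHom X z t * g :=
      Subtype.ext ((Subgroup.mem_centralizer_iff.1 g.2 _ ⟨t.toAdd, rfl⟩).symm)
    rw [h, mul_inv_cancel_right]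
    exact ⟨t, rfl⟩⟩

/-- The quotient by the centre. -/
abbrev Qt (z : ℕ) := ↥(Mz X z) ⧸ (zHom X z).range

open scoped Classical in
/-- The image in the quotient. -/
noncomputable def qm (z : ℕ) (g : ↥(chevE6.group K)) : Qt X z :=
  if h : g ∈ Mz X z then QuotientGroup.mk ⟨g, h⟩ else 1

theorem qm_mul {z : ℕ} {g h : ↥(chevE6.group K)} (hg : g ∈ Mz X z) (hh : h ∈ Mz X z) :
    qm X z (g * h) = qm X z g * qm X z h := by
  simp only [qm, dif_pos hg, dif_pos hh, dif_pos (mul_mem hg hh)]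
  rfl

theorem qm_one (z : ℕ) : qm X z 1 = 1 := by
  simp only [qm, dif_pos (one_mem (Mz X z))]
  rfl

theorem qm_z (z : ℕ) (t : K) : qm X z (X.x z t) = 1 := by
  simp only [qm, dif_pos (z_mem X z t)]
  exact (QuotientGroup.eq_one_iff _).2 ⟨Multiplicative.ofAdd t, rfl⟩

theorem qm_eq {z : ℕ} {g h : ↥(chevE6.group K)} (hg : g ∈ Mz X z) (hh : h ∈ Mz X z) :
    qm X z g = qm X z h ↔ ∃ t, g = h * X.x z t := by
  refine ⟨fun e => ?_, ?_⟩
  · simp only [qm, dif_pos hg, dif_pos hh] at e
    obtain ⟨t, ht⟩ := QuotientGroup.eq.1 e.symm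
    refine ⟨t.toAdd, ?_⟩
    have := congrArg (fun x : ↥(Mz X z) => h * (x : ↥(chevE6.group K))) ht
    simpa [zHom] using this.symm
  · rintro ⟨t, rfl⟩
    rw [qm_mul X hh (z_mem X z t), qm_z, mul_one]

/-- The product along a list in the quotient. -/
noncomputable def ev (z : ℕ) (A : List ℕ) (p : ℕ → K) : Qt X z := (A.map fun r => qm X z (X.x r (p r))).prod

theorem uEl_mem {z : ℕ} : ∀ {w : List (ℕ × K)}, (∀ p ∈ w, p.1 < 72 ∧ zok z p.1 = true) → uEl X w ∈ Mz X z
  | [], _ => one_mem _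
  | p :: w, h => by
    rw [uEl_cons]
    exact mul_mem (x_mem X (h p List.mem_cons_self).1 (h p List.mem_cons_self).2 _)
      (uEl_mem fun q hq => h q (List.mem_cons_of_mem _ hq))

theorem qm_uEl {z : ℕ} : ∀ {A : List ℕ}, (∀ r ∈ A, r < 72 ∧ zok z r = true) → ∀ p : ℕ → K,
    qm X z (uEl X (pl A p)) = ev X z A p
  | [], _, _ => qm_one X z
  | r :: A, h, p => by
    have e : uEl X (pl (r :: A) p) = X.x r (p r) * uEl X (pl A p) := rfl
    rw [e, qm_mul X (x_mem X (h r List.mem_cons_self).1 (h r List.mem_cons_self).2 _) (uEl_mem X fun q hq => by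
      obtain ⟨a, ha, rfl⟩ := List.mem_map.1 hq
      exact h a (List.mem_cons_of_mem _ ha)), qm_uEl (fun a ha => h a (List.mem_cons_of_mem _ ha)) p]
    simp [ev]

theorem ev_congr {z : ℕ} {A : List ℕ} {p p' : ℕ → K} (h : ∀ r ∈ A, p r = p' r) : ev X z A p = ev X z A p' :=
  congrArg List.prod (List.map_congr_left fun r hr => by rw [h r hr])

/-- A list commuting modulo `z`. -/
structure Ab (z : ℕ) (A : List ℕ) : Prop where
  nd : A.Nodup
  lt : ∀ r ∈ A, r < 72
  zk : ∀ r ∈ A, zok z r = true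
  com : ∀ r ∈ A, ∀ s ∈ A, s ≠ ng chevE6 r ∧ (sm E r s = none ∨ sm E r s = some z)

theorem ab_of_chk {z : ℕ} {R : List ℕ} (h : chkAb z R = true) : Ab z (orbL R) := by
  simp only [chkAb, Bool.and_eq_true, decide_eq_true_eq, List.all_eq_true, Nat.blt_eq, Bool.not_eq_true',
    natBeq_eq, decide_eq_false_iff_not, Bool.or_eq_true] at h
  exact ⟨h.1.1, fun r hr => orbL_lt h.1.2 hr, fun r hr => (h.2 r hr).1, fun r hr s hs => (h.2 r hr).2 s hs⟩

variable {z : ℕ} {A : List ℕ}

theorem qx_comm (hA : Ab z A) {r s : ℕ} (hr : r ∈ A) (hs : s ∈ A) (t u : K) :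
    Commute (qm X z (X.x r t)) (qm X z (X.x s u)) := by
  have hr' := x_mem X (hA.lt r hr) (hA.zk r hr) t
  have hs' := x_mem X (hA.lt s hs) (hA.zk s hs) u
  obtain ⟨h1, h3 | h3⟩ := hA.com r hr s hs
  · exact ((qm_mul X hs' hr').symm.trans (by rw [X.swap_none (hA.lt r hr) (hA.lt s hs) h1 h3, qm_mul X hr' hs'])).symm
  · refine ((qm_mul X hs' hr').symm.trans ?_).symm
    rw [X.swap_some (hA.lt r hr) (hA.lt s hs) h1 h3, qm_mul X (mul_mem hr' hs') (z_mem X z _), qm_z, mul_one,
      qm_mul X hr' hs']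

theorem qx_add (hA : Ab z A) {r : ℕ} (hr : r ∈ A) (s t : K) :
    qm X z (X.x r (s + t)) = qm X z (X.x r s) * qm X z (X.x r t) := by
  rw [X.x_add, qm_mul X (x_mem X (hA.lt r hr) (hA.zk r hr) s) (x_mem X (hA.lt r hr) (hA.zk r hr) t)]

theorem prod_add (hA : Ab z A) (p p' : ℕ → K) : ∀ B : List ℕ, (∀ r ∈ B, r ∈ A) →
    ev X z B (p + p') = ev X z B p * ev X z B p'
  | [], _ => by simp [ev]
  | r :: B, h => by
    have hr := h r List.mem_cons_self
    have hB : ∀ s ∈ B, s ∈ A := fun s hs => h s (List.mem_cons_of_mem _ hs)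
    have e : ∀ f : ℕ → K, ev X z (r :: B) f = qm X z (X.x r (f r)) * ev X z B f := fun f => by simp [ev]
    have hc : Commute (qm X z (X.x r (p' r))) (ev X z B p) :=
      Commute.list_prod_right _ _ fun y hy => by
        obtain ⟨s, hs, rfl⟩ := List.mem_map.1 hy
        exact qx_comm X hA hr (hB s hs) _ _
    rw [e, e, e, prod_add hA p p' B hB, Pi.add_apply, qx_add X hA hr]
    calc _ = qm X z (X.x r (p r)) * (qm X z (X.x r (p' r)) * ev X z B p) * ev X z B p' := by simp only [mul_assoc]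
      _ = _ := by rw [hc.eq]; simp only [mul_assoc]

theorem ev_add (hA : Ab z A) (p p' : ℕ → K) : ev X z A (p + p') = ev X z A p * ev X z A p' :=
  prod_add X hA p p' A fun _ h => h

theorem ev_zero (z : ℕ) (A : List ℕ) : ev X z A 0 = 1 := by
  refine List.prod_eq_one fun y hy => ?_
  obtain ⟨r, -, rfl⟩ := List.mem_map.1 hy
  rw [Pi.zero_apply, X.x_zero, qm_one]

theorem ev_dl (hA : Ab z A) {r : ℕ} (hr : r ∈ A) (c : K) : ev X z A (dl r c) = qm X z (X.x r c) := by
  have : ∀ B : List ℕ, B.Nodup → ev X z B (dl r c) = if r ∈ B then qm X z (X.x r c) else 1 := by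
    intro B
    induction B with
    | nil => simp [ev]
    | cons a B ih =>
      intro hnd
      rw [List.nodup_cons] at hnd
      have e : ev X z (a :: B) (dl r c) = qm X z (X.x a (dl r c a)) * ev X z B (dl r c) := by simp [ev]
      rw [e, ih hnd.2]
      by_cases h : a = r
      · subst h; simp [dl_self, hnd.1]
      · simp [dl_ne _ h, X.x_zero, qm_one, Ne.symm h]
  rw [this A hA.nd, if_pos hr]

/-- The value on a sum of one-root functions. -/
theorem ev_lsum (hA : Ab z A) (p : ℕ → K) : ∀ B : List ℕ, (∀ r ∈ B, r ∈ A) →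
    ev X z A (B.map fun r => dl r (p r)).sum = ev X z B p
  | [], _ => by rw [List.map_nil, List.sum_nil, ev_zero]; rfl
  | r :: B, h => by
    rw [List.map_cons, List.sum_cons, ev_add X hA, ev_lsum hA p B (fun s hs => h s (List.mem_cons_of_mem _ hs)),
      ev_dl X hA (h r List.mem_cons_self)]
    simp [ev]

omit X in
theorem lsum_apply (p : ℕ → K) : ∀ B : List ℕ, B.Nodup → ∀ a,
    (B.map fun r => dl r (p r)).sum a = if a ∈ B then p a else 0
  | [], _, a => by simp
  | r :: B, hnd, a => by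
    rw [List.nodup_cons] at hnd
    rw [List.map_cons, List.sum_cons, Pi.add_apply, lsum_apply p B hnd.2 a]
    by_cases e : a = r
    · subst e; simp [dl_self, hnd.1]
    · simp [dl_ne _ e, e]

/-- The conjugation by one root element. -/
theorem conj_single (hA : Ab z A) {e : ℕ} (hcl : chkCl A e = true) (hz : zok z e = true)
    (hne : ∀ r ∈ A, r ≠ ng chevE6 e) (s : K) (p : ℕ → K) :
    ev X z A p * qm X z (X.x e s) = qm X z (X.x e s) * ev X z A (Tw A [(e, s)] p) := by
  obtain ⟨he, hc⟩ := chkCl_iff.1 hcl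
  set u := qm X z (X.x e s) with hu
  have hw : ∀ q ∈ [(e, s)], chkCl A q.1 = true := by simp [hcl]
  have hsingle : ∀ r ∈ A, ∀ c, ev X z A (dl r c) * u = u * ev X z A (Tw A [(e, s)] (dl r c)) := fun r hr c => by
    have hxr := x_mem X (hA.lt r hr) (hA.zk r hr) c
    have hxe := x_mem X he hz s
    rw [ev_dl X hA hr, hu, ← qm_mul X hxr hxe]
    have hT : ∀ a ∈ A, Tw A [(e, s)] (dl r c) a = shM E e s (dl a 1) r * c := fun a ha => by
      rw [Tw, if_pos ha, pair_comm, pair_dl hr, mul_comm]; rfl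
    rcases hs : sm E e r with _ | a
    · rw [X.swap_none he (hA.lt r hr) (hne r hr) hs, qm_mul X hxe hxr, ← ev_dl X hA hr]
      congr 1
      refine ev_congr X fun a ha => ?_
      rw [hT a ha, shM_keep (fun b hb => by rw [hs] at hb; cases hb)]
      by_cases e' : r = a
      · subst e'; simp [dl_self]
      · simp [dl_ne _ e', dl_ne _ (Ne.symm e')]
    · have haA := hc r hr a hs
      rw [X.swap_some he (hA.lt r hr) (hne r hr) hs,
        qm_mul X (mul_mem hxe hxr) (x_mem X (hA.lt a haA) (hA.zk a haA) _), qm_mul X hxe hxr, mul_assoc,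
        ← ev_dl X hA hr, ← ev_dl X hA haA, ← ev_add X hA]
      congr 1
      refine ev_congr X fun b hb => ?_
      rw [hT b hb, shM_some hs, Pi.add_apply]
      have h1 : dl r c b = dl b (1 : K) r * c := by
        by_cases e' : r = b
        · subst e'; simp [dl_self]
        · simp [dl_ne _ e', dl_ne _ (Ne.symm e')]
      have h3 : dl a ((Nc E e r : K) * -s * c) b = -((Nc E e r : K) * s * dl b (1 : K) a * c) := by
        by_cases e' : a = b
        · subst e'; simp [dl_self]
        · simp [dl_ne _ e', dl_ne _ (Ne.symm e')]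
      rw [h1, h3]; ring
  have key : ∀ B : List ℕ, (∀ r ∈ B, r ∈ A) → ev X z A (B.map fun r => dl r (p r)).sum * u =
      u * ev X z A (Tw A [(e, s)] (B.map fun r => dl r (p r)).sum) := by
    intro B
    induction B with
    | nil =>
      intro _
      rw [List.map_nil, List.sum_nil, ev_zero, one_mul,
        ev_congr X (p' := 0) (fun a ha => by rw [Tw, if_pos ha, pair_zero, Pi.zero_apply]), ev_zero, mul_one]
    | cons r B ih =>
      intro hB
      rw [List.map_cons, List.sum_cons, ev_add X hA, mul_assoc, ih (fun x hx => hB x (List.mem_cons_of_mem _ hx)),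
        ← mul_assoc, hsingle r (hB r List.mem_cons_self) (p r), mul_assoc, ← ev_add X hA]
      congr 1
      refine ev_congr X fun a ha => ?_
      simp only [Pi.add_apply, Tw, if_pos ha, pair_add]
  have h := key A fun _ h => h
  rw [ev_lsum X hA p A (fun _ h => h)] at h
  rw [h]
  congr 1
  refine ev_congr X fun a ha => ?_
  simp only [Tw, if_pos ha]
  exact pair_congr (fun _ _ => rfl) fun r hr => by rw [lsum_apply p A hA.nd, if_pos hr]

/-- The roots of a word which moves the list. -/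
def chkMv (z : ℕ) (A : List ℕ) (e : ℕ) : Bool :=
  chkCl A e && zok z e && A.all fun r => !Nat.beq r (ng chevE6 e)

theorem chkMv_iff {e : ℕ} : chkMv z A e = true ↔
    chkCl A e = true ∧ zok z e = true ∧ ∀ r ∈ A, r ≠ ng chevE6 e := by
  simp [chkMv, natBeq_eq, and_assoc]

theorem conj_word (hA : Ab z A) : ∀ {w : List (ℕ × K)}, (∀ q ∈ w, chkMv z A q.1 = true) → ∀ p : ℕ → K,
    ev X z A p * qm X z (uEl X w) = qm X z (uEl X w) * ev X z A (Tw A w p)
  | [], _, p => by
    rw [uEl_nil, qm_one, mul_one, one_mul]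
    refine ev_congr X fun a ha => ?_
    rw [Tw, if_pos ha, show shW ([] : List (ℕ × K)) (dl a 1) = dl a 1 from rfl, pair_dl ha, one_mul]
  | (e, s) :: w, h, p => by
    obtain ⟨h1, h3, h4⟩ := chkMv_iff.1 (h (e, s) List.mem_cons_self)
    have hw : ∀ q ∈ w, chkMv z A q.1 = true := fun q hq => h q (List.mem_cons_of_mem _ hq)
    rw [uEl_cons, qm_mul X (x_mem X (chkCl_iff.1 h1).1 h3 s) (uEl_mem X fun q hq =>
      ⟨(chkCl_iff.1 (chkMv_iff.1 (hw q hq)).1).1, (chkMv_iff.1 (hw q hq)).2.1⟩), ← mul_assoc,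
      conj_single X hA h1 h3 h4, mul_assoc, conj_word hA hw, mul_assoc]
    congr 1; congr 1
    exact ev_congr X fun a ha => (Tw_cons (fun q hq => (chkMv_iff.1 (h q hq)).1) p ha).symm

theorem cls_congr {p p' : ℕ → K} (h : ∀ r ∈ A, p r = p' r) {g : ↥(chevE6.group K)} (hg : Cls X z A p g) :
    Cls X z A p' g := by
  obtain ⟨t, rfl⟩ := hg
  exact ⟨t, by rw [show pl A p = pl A p' from List.map_congr_left fun r hr => by rw [h r hr]]⟩

theorem cls_iff (hA : ∀ r ∈ A, r < 72 ∧ zok z r = true) {p : ℕ → K} {g : ↥(chevE6.group K)} :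
    Cls X z A p g ↔ g ∈ Mz X z ∧ qm X z g = ev X z A p := by
  have hm : uEl X (pl A p) ∈ Mz X z := uEl_mem X fun q hq => by
    obtain ⟨a, ha, rfl⟩ := List.mem_map.1 hq; exact hA a ha
  constructor
  · rintro ⟨t, rfl⟩
    exact ⟨mul_mem hm (z_mem X z t), by rw [qm_mul X hm (z_mem X z t), qm_z, mul_one, qm_uEl X hA]⟩
  · rintro ⟨hg, e⟩
    rw [← qm_uEl X hA] at e
    exact (qm_eq X hg hm).1 e

theorem cls_move (hA : Ab z A) {w : List (ℕ × K)} (hw : ∀ q ∈ w, chkMv z A q.1 = true) {p : ℕ → K}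
    {g : ↥(chevE6.group K)} (hg : Cls X z A p g) :
    Cls X z A (Tw A w p) ((uEl X w)⁻¹ * g * uEl X w) := by
  have hA' : ∀ r ∈ A, r < 72 ∧ zok z r = true := fun r hr => ⟨hA.lt r hr, hA.zk r hr⟩
  obtain ⟨hgM, e⟩ := (cls_iff X hA').1 hg
  have hu : uEl X w ∈ Mz X z := uEl_mem X fun q hq =>
    ⟨(chkCl_iff.1 (chkMv_iff.1 (hw q hq)).1).1, (chkMv_iff.1 (hw q hq)).2.1⟩
  refine (cls_iff X hA').2 ⟨mul_mem (mul_mem (inv_mem hu) hgM) hu, ?_⟩
  refine mul_left_cancel (a := qm X z (uEl X w)) ?_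
  rw [← conj_word X hA hw, ← e, ← qm_mul X hu (mul_mem (mul_mem (inv_mem hu) hgM) hu), ← qm_mul X hgM hu]
  congr 1
  group

end Cfsg.Agent.Lib.TE6Deg41
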