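import Cfsg.Agent.Lib.TE6Deg41.Siegel
import Cfsg.Agent.Lib.E6Deg41.Certs
import Cfsg.Agent.Lib.Chars.Integral

/-!
Every nontrivial irreducible representation of `²E₆(q)` has degree at least `q (q⁶ − q³ + 1) (q⁴ + 1)`.
-/

set_option autoImplicit false
set_option linter.unusedSectionVars false

namespace Cfsg.Agent.Lib.TE6Deg41

open Cfsg.Lie Cfsg.Agent.Lib.Chev Cfsg.Agent.Lib.E6Deg41 Module

variable {K : Type*} [Field K] [Fintype K] {q : ℕ} {V : Type*} [AddCommGroup V] [Module ℂ V]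
  [FiniteDimensional ℂ V]

/-- The degree bound. -/
theorem degree_bound (hq : IsPrimePow q) (hK : Fintype.card K = q ^ 2)
    (π : Representation ℂ ↥(twistedE6 K q) V) [π.IsIrreducible] (hinj : Function.Injective π) :
    target q ≤ finrank ℂ V := by
  classical
  obtain ⟨φ, hφ, h2⟩ := Twisted.Core.e6_powAut hq hK
  have H : Hyp K q φ := ⟨hq, hK, hφ, h2⟩
  obtain ⟨ψ, hψ⟩ : ∃ ψ : AddChar K ℂ, ψ 1 ≠ 1 := AddChar.exists_apply_ne_zero.2 one_ne_zero
  let X : XK K := ⟨Twisted.Core.rootedE6, lac_E6, ψ, hψ⟩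
  let e := Subgroup.subgroupOfEquivOfLe H.le_group
  let Γ : Ctx K q V := ⟨φ, H, X, π.comp e.toMonoidHom⟩
  have hmem := (H.z_mem_GT X (show 71 < 72 by norm_num) orb_facts.2.2.2.2.1 (t := 1)).2 (map_one φ)
  obtain ⟨v, hv⟩ : ∃ v, Γ.π ⟨X.x 71 1, hmem⟩ v ≠ v := by
    by_contra hcon
    push Not at hcon
    have h1 : π (e ⟨X.x 71 1, hmem⟩) = π 1 := by
      rw [map_one]; exact LinearMap.ext hcon
    have h3 : (⟨X.x 71 1, hmem⟩ : ↥(GT K q)) = 1 := e.injective ((hinj h1).trans (map_one e).symm)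
    have h4 : X.x 71 (1 : K) = X.x 71 0 := by rw [X.x_zero]; exact congrArg Subtype.val h3
    exact one_ne_zero (Lib.ChevOver.xg_injective X.hh (show 71 < chevE6.nroots by decide) (congrArg Subtype.val h4))
  have h := Γ.degree_gap (map_one φ) hv
  have : Finite ↥(twistedE6 K q) := inferInstance
  refine no_degree hq ?_ h
  refine (Lib.Chars.finrank_dvd_card π).trans (Dvd.intro_left (Nat.gcd 3 (q + 1)) ?_)
  rw [Twisted.Core.e6_card hq hK, orderPoly]
  ring

end Cfsg.Agent.Lib.TE6Deg41
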