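import Cfsg.Agent.Lib.TE6Deg41.Top

/-!
The vectors fixed by the highest root subgroup: characters of the roots at distance one from it.
-/

set_option autoImplicit false
set_option linter.unusedSectionVars false
set_option maxRecDepth 8000

namespace Cfsg.Agent.Lib.TE6Deg41

open scoped Classical

open Cfsg.Lie Cfsg.Agent.Lib.Chev Cfsg.Agent.Lib.E6Deg41 Module
open Cfsg.Agent.Lib.E6Deg41.Setup (shM shM_some shM_keep)

/-- The root `70` and its partners. -/
def L70 : List ℕ := [70, 69, 65, 53, 54, 55, 66]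
/-- All roots at distance one. -/
def R20 : List ℕ := [70, 69, 65, 53, 54, 55, 66, 47, 51, 63, 46, 48, 49, 52]
/-- The translations of `L70`. -/
def T70 : List (ℕ × ℕ) := [(69, 39), (65, 44), (53, 60), (54, 59), (55, 58), (66, 43)]
/-- Moves showing that only the value at `70` occurs: `(a, e, b)` with `e + b = a`. -/
def restTab : List (ℕ × ℕ × ℕ) := [(47, 14, 61), (51, 15, 62), (63, 36, 62), (48, 14, 62), (49, 29, 52), (52, 38, 50)]

/-- The data of a long root at distance one. -/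
structure Stratum where
  β : ℕ
  W : List (List ℕ)
  T : List (ℕ × ℕ)
  down : List ℕ
  e : ℕ

/-- The eight long roots at distance one. -/
def strata : Fin 8 → Stratum := ![
  ⟨46, [[3], [2, 4], [0, 5], [3], [2, 4], [3]], [], [46], 0⟩,
  ⟨47, [[2, 4], [0, 5], [3], [2, 4], [3]], [(46, 39)], [46, 47], 1⟩,
  ⟨51, [[0, 5], [3], [2, 4], [3]], [(46, 44), (48, 42)], [46, 47, 48, 50, 51], 3⟩,
  ⟨53, [[0, 5], [2, 4], [3]], [(47, 44), (48, 43), (51, 39)], [46, 47, 48, 50, 51, 53], 4⟩,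
  ⟨63, [[3], [2, 4], [3]], [(46, 60), (49, 57), (52, 56)], [46, 47, 48, 49, 50, 51, 52, 61, 62, 63], 5⟩,
  ⟨65, [[2, 4], [3]], [(47, 60), (49, 58), (54, 56), (63, 39)],
    [46, 47, 48, 49, 50, 51, 52, 53, 54, 61, 62, 63, 64, 65], 6⟩,
  ⟨69, [[3]], [(51, 60), (52, 59), (55, 57), (63, 44), (66, 42)],
    [46, 47, 48, 49, 50, 51, 52, 53, 54, 55, 61, 62, 63, 64, 65, 66, 67, 68, 69], 8⟩,
  ⟨70, [], T70, [46, 47, 48, 49, 50, 51, 52, 53, 54, 55, 61, 62, 63, 64, 65, 66, 67, 68, 69, 70], 9⟩]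

/-- One residual move. -/
def chkRest (p : ℕ × ℕ × ℕ) : Bool :=
  let a := p.1
  let e := p.2.1
  let b := p.2.2
  Ctx.chkMvs 71 R20 e && decide (sm E e b = some a) && (orbL R20).contains a && (orbL R20).contains b &&
    (Nat.beq (sg e) e || (decide (sm E (sg e) b = none) && decide (sm E (sg e) a = none))) &&
    (orb e).all fun f => (orbL L70).all fun x => keepz (orbL L70) [70] f x

/-- The checks of a stratum. -/
def chkStratum (S : Stratum) : Bool :=
  chkTrT 71 R20 S.down S.β S.T && S.down.contains S.β && Nat.beq (perm E S.W.flatten 70) S.β &&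
    (S.W.all fun L => gens.contains L) && chkW S.W.flatten 71 71 (orbL R20) (orbL R20) &&
    (orbL R20).all (fun r => !Nat.beq (perm E S.W.flatten r) S.β || Nat.beq r 70) &&
    (orbL R20).contains S.β && (S.T.map Prod.fst).all (fun r => Nat.blt r 72) &&
    decide (orbL (S.T.map Prod.fst)).Nodup && Nat.beq (orbL (S.T.map Prod.fst)).length S.e &&
    (orbL (S.T.map Prod.fst)).all fun r => (orbL R20).contains r

theorem mid_ok : (chkAb 71 L70 && chkAb 71 R20 && chkAb 71 [70] &&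
    chkTrT 71 L70 (orbL L70) 70 T70 && chkSub (orbL R20) (orbL L70) && chkSub (orbL L70) (orbL [70]) &&
    restTab.all chkRest && Ctx.chkMvs 71 R20 32 && decide (sm E 32 47 = some 46) && Nat.beq (sg 32) 32 &&
    (orbL R20).contains 47 && (orbL R20).contains 46 &&
    ((orbL L70).all fun x => keepz (orbL R20) [70, 46] 32 x) &&
    (orbL R20).all fun r => (orbL L70).contains r || Nat.beq r 46 ||
      restTab.any fun p => Nat.beq r p.1 || Nat.beq r (sg p.1)) = true := by decide +kernel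

theorem cov70 : ∀ r ∈ orbL L70, r ≠ 70 → r ∈ orbL (T70.map Prod.fst) := by decide +kernel

theorem T70_facts : ((T70.map Prod.fst).all (fun r => Nat.blt r 72) && decide (orbL (T70.map Prod.fst)).Nodup &&
    Nat.beq (orbL (T70.map Prod.fst)).length 9 &&
    (orbL (T70.map Prod.fst)).all (fun r => (orbL L70).contains r) && (orbL L70).contains 70) = true := by
  decide +kernel

theorem strata_ok : ∀ i, chkStratum (strata i) = true := by decide +kernel

theorem strata_anti : ∀ i j : Fin 8, (strata i).β ∈ (strata j).down → (strata j).β ∈ (strata i).down → i = j := by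
  decide +kernel

variable {K : Type*} [Field K] [Fintype K] {q : ℕ} {V : Type*} [AddCommGroup V] [Module ℂ V] (Γ : Ctx K q V)

namespace Ctx

theorem mids : (Ab 71 (orbL L70) ∧ ∀ r ∈ L70, r < 72) ∧ (Ab 71 (orbL R20) ∧ ∀ r ∈ R20, r < 72) ∧
    chkTrT 71 L70 (orbL L70) 70 T70 = true ∧ chkSub (orbL R20) (orbL L70) = true ∧
    chkSub (orbL L70) (orbL [70]) = true := by
  have h := mid_ok
  simp only [Bool.and_eq_true] at h
  exact ⟨chkA h.1.1.1.1.1.1.1.1.1.1.1.1.1, chkA h.1.1.1.1.1.1.1.1.1.1.1.1.2, h.1.1.1.1.1.1.1.1.1.1.2,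
    h.1.1.1.1.1.1.1.1.1.2, h.1.1.1.1.1.1.1.1.2⟩

/-- Components on a list inherit the character of a commuting sublist. -/
theorem comp_sub {z : ℕ} {R R' : List ℕ} (hR : ∀ r ∈ R, r < 72) (hR' : ∀ r ∈ R', r < 72) (hA : Ab z (orbL R))
    (hA' : Ab z (orbL R')) (hsub : chkSub (orbL R) (orbL R') = true) {m m₀ : ℕ → K} (hm : Eqv Γ.φ m)
    (hm₀ : Eqv Γ.φ m₀) {v : V} (hv : v ∈ Γ.Es z (orbL R') m₀) (hne : Γ.proj hR m v ≠ 0) :
    Γ.proj hR m v ∈ Γ.Es z (orbL R) m ∧ ∀ r ∈ orbL R', m r = m₀ r := by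
  have hz := Γ.Es_le_Fz m₀ hv
  have h1 := Γ.proj_Es hR hA m hz
  refine ⟨h1, Γ.uniq hR' hA'.nd hm hm₀ hne (Γ.sub hA hsub h1) ?_⟩
  refine Γ.proj_mem hR m fun p hp p' hp' g hg => ?_
  rw [Γ.act_comm (fun r hr => ⟨hA'.lt r hr, hA'.zk r hr⟩) (fun r hr => ⟨hA.lt r hr, hA.zk r hr⟩)
    (fun r hr s hs => hA.com r ((chkSub_iff.1 hsub).2 r hr).1 s hs) hg (Γ.cls_rep hR hp) hz,
    hv p' hp' g hg, map_smul]

variable [FiniteDimensional ℂ V]

/-- The multiplicity at `70`. -/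
noncomputable def n70 (t : K) : ℕ := finrank ℂ (Γ.Es 71 (orbL L70) (dl 70 t))

/-- The reflection at the second fundamental root gives characters at `70`. -/
theorem n70_pos (hone : ∀ t, Γ.φ t = t → t ≠ 0 → Γ.n11 t = 1) {t : K} (ht : Γ.φ t = t) (ht0 : t ≠ 0) :
    1 ≤ Γ.n70 t := by
  obtain ⟨⟨hA, hR⟩, -⟩ := tops
  obtain ⟨⟨hA7, hR7⟩, -, hT, -, hs70'⟩ := mids
  have h := top_ok
  simp only [Bool.and_eq_true] at h
  obtain ⟨e71, -, e70, o70, hs71, hs70, -⟩ := orb_facts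
  have hw : ∀ L ∈ [[1]], L ∈ gens := by simp [gens]
  set c : K := (weta E [1] 71 : K) with hc
  have hcc : c * c = 1 := by rcases weta_cases (C := E) [1] 71 with w | w <;> simp [hc, w]
  have hcfix : Γ.φ c = c := map_intCast _ _
  have hs : Γ.φ (c * t) = c * t := by rw [map_mul, hcfix, ht]
  have hs0 : c * t ≠ 0 := mul_ne_zero (fun e => by rw [e] at hcc; simp at hcc) ht0
  obtain ⟨v, hv, hv0⟩ := exists_of_one_le (hone _ hs hs0).ge
  have hp : perm E [1] 71 = 70 ∧ perm E [1] 70 = 71 := by decide +kernel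
  have hinj : ∀ r ∈ orbL R11, (perm E [1] r = 70 → r = 71) ∧ (perm E [1] r = 71 → r = 70) := by decide +kernel
  have h70 : Γ.π (Γ.nw hw) v ∈ Γ.Es 72 [70] (dl 70 t) :=
    Γ.word_mem_Es hw hA h.2 (m' := dl 70 t) (fun r hr hr' => by
      have hr'' : perm E [1] r = 70 := by simpa using hr'
      show dl 70 t (perm E [1] r) = _
      obtain rfl := (hinj r hr).1 hr''
      rw [hr'', dl_self, dl_self, ← mul_assoc]
      show t = c * c * t
      rw [hcc, one_mul]) hv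
  have h71 : Γ.π (Γ.nw hw) v ∈ Γ.Es 72 [71] 0 :=
    Γ.word_mem_Es hw hA h.1.2 (m' := 0) (fun r hr hr' => by
      have hr'' : perm E [1] r = 71 := by simpa using hr'
      obtain rfl := (hinj r hr).2 hr''
      rw [dl_ne _ (by norm_num), mul_zero]; rfl) hv
  set w := Γ.π (Γ.nw hw) v with hwdef
  have hw0 : w ≠ 0 := fun e => hv0 (Γ.act_injective (Γ.nw hw) (by rw [← hwdef, e, map_zero]))
  have hz : w ∈ Γ.Fz 71 := Γ.mem_Fz.2 fun u hu => by
    have hu' := (Γ.H.z_mem_GT Γ.X (by norm_num) hs71).1 hu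
    rw [h71 (dl 71 u) (eqv_dl _ hs71 hu') ⟨_, hu⟩ ⟨0, by simp [pl, uEl, dl_self, Γ.X.x_zero]⟩]
    simp [pair]
  have h70' : w ∈ Γ.Es 71 (orbL [70]) (dl 70 t) := Γ.glue (by simp) (by rw [e70]; simp) hz fun r hr => by
    rw [List.mem_singleton] at hr; subst hr; rw [o70]; exact h70
  obtain ⟨m, hm, hne, -⟩ := Γ.exists_comp hR7 hA7 hz hw0
  have h := Γ.comp_sub hR7 (R' := [70]) (by simp) hA7 (ab_of_chk (by have := mid_ok; simp only [Bool.and_eq_true] at this; exact this.1.1.1.1.1.1.1.1.1.1.1.2)) hs70' hm (eqv_dl _ hs70 ht) h70' hne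
  have hm70 : m 70 = t := by rw [h.2 70 (by rw [e70]; simp), dl_self]
  have := (one_le_of_mem h.1 hne).trans (Γ.to_dl hA7 hR7 hT cov70 hm (by rwa [hm70]))
  rwa [hm70] at this

/-- The highest root splits off the vectors it fixes. -/
theorem split_top (hone : ∀ t, Γ.φ t = t → t ≠ 0 → Γ.n11 t = 1) :
    (q - 1) * q ^ 10 + finrank ℂ (Γ.Fz 71) ≤ finrank ℂ V := by
  classical
  refine le_trans ?_ Γ.sum_top
  let o : Γ.Fix := ⟨0, map_zero _⟩
  rw [← Finset.add_sum_erase _ _ (Finset.mem_univ o), add_comm (finrank ℂ (Γ.Es 72 (orbL [71]) (dl 71 o.1)))]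
  refine Nat.add_le_add ?_ (Submodule.finrank_mono fun v hv p hp g hg => ?_)
  · refine le_trans ?_ (Finset.card_nsmul_le_sum _ _ (q ^ 10) fun t ht => ?_)
    · rw [Finset.card_erase_of_mem (Finset.mem_univ _), Finset.card_univ, Γ.card_Fix, smul_eq_mul]
    · have ht' : t.1 ≠ 0 := fun e => (Finset.mem_erase.1 ht).1 (Subtype.ext e)
      have := Γ.top_eigen t.2 ht'
      rwa [hone _ t.2 ht', mul_one] at this
  · obtain ⟨e71, -, -, -, hs71, -⟩ := orb_facts
    obtain ⟨u, hu⟩ := hg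
    have hmem : Γ.X.x 71 (p 71) ∈ GT K q := (Γ.H.z_mem_GT Γ.X (by norm_num) hs71).2 (hp.fix (by norm_num) hs71)
    rw [show g = ⟨_, hmem⟩ from Subtype.ext (by rw [hu]; simp [e71, pl, uEl, x_out Γ.X le_rfl]),
      Γ.mem_Fz.1 hv]
    simp [e71, pair, o, dl_self]

/-- Translates of the characters at `70`. -/
theorem sum70 : ∑ t : {t : Γ.Fix // t.1 ≠ 0}, q ^ 9 * Γ.n70 t.1.1 ≤ finrank ℂ (Γ.Fz 71) := by
  classical
  obtain ⟨⟨hA7, hR7⟩, -, hT, -, hs70'⟩ := mids
  have hf := T70_facts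
  simp only [Bool.and_eq_true, natBeq_eq, decide_eq_true_eq, List.all_eq_true, Nat.blt_eq,
    List.contains_iff_mem] at hf
  obtain ⟨⟨⟨⟨f1, f2⟩, f3⟩, f4⟩, f5⟩ := hf
  choose m hm hms hmβ hmg hle using fun i : {t : Γ.Fix // t.1 ≠ 0} × FP Γ.φ (T70.map Prod.fst) =>
    Γ.translate_dl hA7 hR7 hT f5 ⊤ (fun p _ => Γ.inv_top p.2) i.1.1.2 i.1.2 (FP.eqv i.2)
  simp only [fr_top] at hle
  refine le_trans ?_ (Γ.sep hR7 hA7.nd m hm (fun i => Γ.Es 71 (orbL L70) (m i)) (Γ.Fz 71)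
    (fun i => le_inf le_rfl (Γ.Es_le_Fz _)) ?_)
  · refine le_trans (le_of_eq ?_) (Finset.sum_le_sum fun i _ => hle i)
    rw [Fintype.sum_prod_type]
    refine Finset.sum_congr rfl fun t _ => ?_
    show _ = ∑ _y : FP Γ.φ (T70.map Prod.fst), Γ.n70 t.1.1
    rw [Finset.sum_const, Finset.card_univ, Γ.card_T f1 f2 9 f3, smul_eq_mul]
  · intro i j h
    refine Prod.ext (Subtype.ext (Subtype.ext ?_)) (FP.ext_eq fun r hr => ?_)
    · have := h 70 f5; rwa [hmβ, hmβ] at this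
    · rw [← hmg i r hr, ← hmg j r hr]; exact h r (f4 r hr)

/-- Either the bound holds or each character at `70` occurs once. -/
theorem mid_dichotomy (hone : ∀ t, Γ.φ t = t → t ≠ 0 → Γ.n11 t = 1) :
    target q ≤ finrank ℂ V ∨ ∀ t, Γ.φ t = t → t ≠ 0 → Γ.n70 t = 1 := by
  classical
  by_cases hbig : ∃ t, Γ.φ t = t ∧ t ≠ 0 ∧ 2 ≤ Γ.n70 t
  · left
    obtain ⟨t, ht, ht0, h2⟩ := hbig
    refine le_trans ?_ (Γ.split_top hone)
    refine le_trans ?_ (Nat.add_le_add_left Γ.sum70 _)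
    have hq := Γ.H.hq.two_le
    refine le_trans (target_bounds hq).1 ?_
    rw [← Finset.mul_sum, ← Finset.add_sum_erase _ _ (Finset.mem_univ (⟨⟨t, ht⟩, ht0⟩ : {t : Γ.Fix // t.1 ≠ 0}))]
    have hrest : q - 2 ≤ ∑ x ∈ (Finset.univ : Finset {t : Γ.Fix // t.1 ≠ 0}).erase ⟨⟨t, ht⟩, ht0⟩,
        Γ.n70 x.1.1 := by
      refine le_trans ?_ (Finset.card_nsmul_le_sum _ _ 1 fun x _ => Γ.n70_pos hone x.1.2 x.2)
      rw [Finset.card_erase_of_mem (Finset.mem_univ _), Finset.card_univ, Γ.card_Fix_ne, smul_eq_mul, mul_one]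
      omega
    calc q ^ 11 = (q - 1) * q ^ 10 + q ^ 9 * q := by
          obtain ⟨r, rfl⟩ : ∃ r, q = r + 1 := ⟨q - 1, by omega⟩
          rw [Nat.add_sub_cancel]; ring
      _ ≤ _ := Nat.add_le_add_left (Nat.mul_le_mul_left _ (le_trans (show q ≤ 2 + (q - 2) by omega)
          (Nat.add_le_add h2 hrest))) _
  · push Not at hbig
    exact Or.inr fun t ht ht0 => le_antisymm (Nat.lt_succ_iff.1 (hbig t ht ht0)) (Γ.n70_pos hone ht ht0)

/-- A moved component is a second character. -/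
theorem two_chars {m₀ : ℕ → K} {e b : ℕ} {w : V} {m : ℕ → K} (hm : Eqv Γ.φ m) (hw0 : w ≠ 0)
    (hw : w ∈ Γ.Es 71 (orbL R20) m) (h0 : ∀ r ∈ orbL L70, m r = m₀ r)
    (he : e < 72) (hmv : Ctx.chkMvs 71 R20 e = true)
    (hb : b ∈ orbL R20) (hne : shW (bl Γ.φ [(e, (1 : K))]) m b ≠ m b)
    (hk : ∀ r ∈ orbL L70, shW (bl Γ.φ [(e, (1 : K))]) m r = m r) :
    2 ≤ finrank ℂ (Γ.Es 71 (orbL L70) m₀) := by
  classical
  obtain ⟨-, ⟨hA, hR⟩, -, hsub, -⟩ := mids
  have hl : ∀ p ∈ [(e, (1 : K))], okB Γ.φ p := by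
    intro p hp; rw [List.mem_singleton] at hp; subst hp; exact ⟨he, fun _ => map_one _⟩
  have h2 := Γ.move_mem hA hR hl (fun p hp => by rw [List.mem_singleton] at hp; subst hp; exact hmv) hw
  set m' := shW (bl Γ.φ [(e, (1 : K))]) m
  let M : Bool → ℕ → K := fun i => bif i then m' else m
  refine le_trans ?_ (Γ.sep hR hA.nd M (fun i => by cases i <;> first | exact hm | exact hm.shW Γ.H.h2 hl)
    (fun i => Γ.Es 71 (orbL R20) (M i)) (Γ.Es 71 (orbL L70) m₀) (fun i => le_inf le_rfl fun v hv => ?_) ?_)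
  · rw [Fintype.sum_bool]
    have a := one_le_of_mem h2 (fun e => hw0 (Γ.act_injective _ (e.trans (map_zero _).symm)))
    have b := one_le_of_mem hw hw0
    show 2 ≤ finrank ℂ (Γ.Es 71 (orbL R20) m') + finrank ℂ (Γ.Es 71 (orbL R20) m)
    omega
  · rw [← Γ.Es_congr (m := M i) fun r hr => ?_]
    · exact Γ.sub hA hsub hv
    · cases i
      · exact h0 r hr
      · exact (hk r hr).trans (h0 r hr)
  · intro i j h
    cases i <;> cases j <;> try rfl
    · exact absurd (h b hb).symm hne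
    · exact absurd (h b hb) hne

/-- Without a second character the eigenvectors at `70` are eigenvectors on all roots at distance one. -/
theorem line70 (h70 : ∀ t, Γ.φ t = t → t ≠ 0 → Γ.n70 t = 1) {t : K} (ht : Γ.φ t = t) (ht0 : t ≠ 0) :
    Γ.Es 71 (orbL L70) (dl 70 t) ≤ Γ.Es 71 (orbL R20) (dl 70 t) := by
  classical
  obtain ⟨⟨hA7, hR7⟩, ⟨hA, hR⟩, -, hsub, -⟩ := mids
  have hm' := mid_ok
  simp only [Bool.and_eq_true, List.all_eq_true, List.any_eq_true, Bool.or_eq_true, natBeq_eq,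
    decide_eq_true_eq, List.contains_iff_mem] at hm'
  obtain ⟨⟨⟨⟨⟨⟨⟨⟨hrest, h32⟩, hsm⟩, hs32⟩, h47⟩, h46⟩, hk32⟩, hcov⟩, -⟩ :
      ((((((((∀ p ∈ restTab, chkRest p = true) ∧ Ctx.chkMvs 71 R20 32 = true) ∧ sm E 32 47 = some 46) ∧ sg 32 = 32) ∧
        47 ∈ orbL R20) ∧ 46 ∈ orbL R20) ∧ ∀ x ∈ orbL L70, keepz (orbL R20) [70, 46] 32 x = true) ∧
        ∀ r ∈ orbL R20, (r ∈ orbL L70 ∨ r = 46) ∨ ∃ p ∈ restTab, r = p.1 ∨ r = sg p.1) ∧ True :=
    ⟨⟨⟨⟨⟨⟨⟨⟨hm'.1.1.1.1.1.1.1.2, hm'.1.1.1.1.1.1.2⟩, hm'.1.1.1.1.1.2⟩, hm'.1.1.1.1.2⟩, hm'.1.1.1.2⟩,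
      hm'.1.1.2⟩, hm'.1.2⟩, hm'.2⟩, trivial⟩
  have hs70 : sg 70 = 70 := orb_facts.2.2.2.2.2.1
  intro v hv
  refine Γ.mem_Es_of_comp hR hA (Γ.Es_le_Fz _ hv) fun m hm hne => ?_
  obtain ⟨hw, hagree⟩ := Γ.comp_sub hR hR7 hA hA7 hsub hm (eqv_dl _ hs70 ht) hv hne
  have h2 : ¬2 ≤ finrank ℂ (Γ.Es 71 (orbL L70) (dl 70 t)) := fun h => by
    have := h70 t ht ht0; unfold n70 at this; omega
  have hzero : ∀ x ∈ orbL L70, x ∉ [70] → m x = 0 := fun x hx hx' => by
    rw [hagree x hx, dl_ne _ (by simpa using hx')]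
  have hA0 : ∀ p ∈ restTab, m p.1 = 0 := by
    intro p hp
    by_contra hma
    obtain ⟨a, e, b⟩ := p
    have hk := hrest _ hp
    simp only [chkRest, Bool.and_eq_true, Bool.or_eq_true, natBeq_eq, decide_eq_true_eq, List.all_eq_true,
      List.contains_iff_mem] at hk
    obtain ⟨⟨⟨⟨⟨hmv, hse⟩, -⟩, hbA⟩, hsec⟩, hkeep⟩ := hk
    have he : e < 72 := (chkCl_iff.1 (chkMv_iff.1 (List.all_eq_true.1 hmv e (self_mem_orb e))).1).1
    have hN : (Nc E e b : K) ≠ 0 :=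
      (Γ.X.Nc_unit (show e < chevE6.nroots from he) (show b < chevE6.nroots from hA.lt b hbA)
        ((chkMv_iff.1 (List.all_eq_true.1 hmv e (self_mem_orb e))).2.2 b hbA) hse).2
    refine h2 (Γ.two_chars hm hne hw hagree he hmv hbA ?_ ?_)
    · by_cases hse' : sg e = e
      · rw [show bl Γ.φ [(e, (1 : K))] = [(e, 1)] by simp [bl, blk, hse']]
        show shM E e 1 m b ≠ m b
        rw [shM_some hse]
        simpa [sub_eq_self] using mul_ne_zero hN hma
      · obtain ⟨n1, n2⟩ := hsec.resolve_left hse'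
        rw [show bl Γ.φ [(e, (1 : K))] = [(e, 1), (sg e, (ep e : K) * Γ.φ 1)] by simp [bl, blk, hse']]
        show shM E e 1 (shM E (sg e) ((ep e : K) * Γ.φ 1) m) b ≠ m b
        rw [shM_some hse, shM_keep (fun x hx => by rw [n1] at hx; cases hx),
          shM_keep (fun x hx => by rw [n2] at hx; cases hx)]
        simpa [sub_eq_self] using mul_ne_zero hN hma
    · intro x hx
      by_cases hse' : sg e = e
      · rw [show bl Γ.φ [(e, (1 : K))] = [(e, 1)] by simp [bl, blk, hse']]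
        exact keep_val (hkeep e (self_mem_orb e) x hx) hzero _
      · rw [show bl Γ.φ [(e, (1 : K))] = [(e, 1), (sg e, (ep e : K) * Γ.φ 1)] by simp [bl, blk, hse']]
        show shM E e 1 (shM E (sg e) ((ep e : K) * Γ.φ 1) m) x = m x
        have hk' : ∀ y ∈ orbL L70, shM E (sg e) ((ep e : K) * Γ.φ 1) m y = m y := fun y hy =>
          keep_val (hkeep (sg e) (by simp [orb, hse']) y hy) hzero _
        rw [keep_val (hkeep e (self_mem_orb e) x hx) (fun y hy hy' => by rw [hk' y hy, hzero y hy hy']), hk' x hx]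
  have hR20 : ∀ r ∈ orbL R20, r ∉ [70, 46] → m r = 0 := by
    intro r hr hr'
    simp only [List.mem_cons, List.not_mem_nil, or_false, not_or] at hr'
    rcases hcov r hr with (h | h) | ⟨p, hp, h | h⟩
    · exact hzero r h (by simpa using hr'.1)
    · exact absurd h hr'.2
    · rw [h]; exact hA0 p hp
    · have hk := hrest _ hp
      simp only [chkRest, Bool.and_eq_true, List.contains_iff_mem] at hk
      rw [h, hm.apply_sg (hA.lt _ hk.1.1.1.2), hA0 p hp, map_zero, mul_zero]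
  have h46z : m 46 = 0 := by
    by_contra hma
    have hN : (Nc E 32 47 : K) ≠ 0 :=
      (Γ.X.Nc_unit (show 32 < chevE6.nroots by decide) (show 47 < chevE6.nroots by decide) (by decide +kernel) hsm).2
    refine h2 (Γ.two_chars hm hne hw hagree (by norm_num) h32 h47 ?_ fun x hx => ?_)
    · rw [show bl Γ.φ [(32, (1 : K))] = [(32, 1)] by simp [bl, blk, hs32]]
      show shM E 32 1 m 47 ≠ m 47
      rw [shM_some hsm]
      simpa [sub_eq_self] using mul_ne_zero hN hma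
    · rw [show bl Γ.φ [(32, (1 : K))] = [(32, 1)] by simp [bl, blk, hs32]]
      exact keep_val (hk32 x hx) hR20 _
  intro r hr
  by_cases e : r = 70
  · subst e; exact hagree 70 (mem_orbL_self List.mem_cons_self)
  · rw [dl_ne _ e]
    by_cases e' : r = 46
    · subst e'; exact h46z
    · exact hR20 r hr (by simp [e, e'])

/-- The multiplicity at a long root at distance one. -/
theorem stratum_one (hone : ∀ t, Γ.φ t = t → t ≠ 0 → Γ.n11 t = 1)
    (h70 : ∀ t, Γ.φ t = t → t ≠ 0 → Γ.n70 t = 1) (i : Fin 8) {t : K} (ht : Γ.φ t = t) (ht0 : t ≠ 0) :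
    1 ≤ finrank ℂ (Γ.Es 71 (orbL R20) (dl (strata i).β t)) := by
  obtain ⟨-, ⟨hA, hR⟩, -⟩ := mids
  have h := strata_ok i
  simp only [chkStratum, Bool.and_eq_true, natBeq_eq, decide_eq_true_eq, List.all_eq_true, List.contains_iff_mem,
    Bool.or_eq_true, Bool.not_eq_true', decide_eq_false_iff_not] at h
  obtain ⟨⟨⟨⟨⟨⟨⟨⟨⟨⟨-, -⟩, hperm⟩, hW⟩, hchk⟩, hone'⟩, -⟩, -⟩, -⟩, -⟩, -⟩ := h
  set L := (strata i).W.flatten with hL
  set c : K := (weta E L 70 : K) with hc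
  have hcc : c * c = 1 := by rcases weta_cases (C := E) L 70 with w | w <;> simp [hc, w]
  have hs : Γ.φ (c * t) = c * t := by rw [map_mul, hc, map_intCast, ht]
  have hs0 : c * t ≠ 0 := mul_ne_zero (fun e => by rw [e] at hcc; simp at hcc) ht0
  refine le_trans ?_ (Γ.word_le hW hA hchk (m := dl 70 (c * t)) fun r hr hr' => ?_)
  · exact le_trans (Γ.n70_pos hone hs hs0) (Submodule.finrank_mono (Γ.line70 h70 hs hs0))
  · by_cases e : r = 70
    · subst e; rw [hperm, dl_self, dl_self, ← mul_assoc]; show t = c * c * t; rw [hcc, one_mul]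
    · rw [dl_ne _ e, mul_zero, dl_ne]
      exact (hone' r hr).resolve_right e

/-- The long roots at distance one account for their translates. -/
theorem mid_bound (hone : ∀ t, Γ.φ t = t → t ≠ 0 → Γ.n11 t = 1)
    (h70 : ∀ t, Γ.φ t = t → t ≠ 0 → Γ.n70 t = 1) :
    (q - 1) * ∑ i : Fin 8, q ^ (strata i).e + finrank ℂ (Γ.Es 71 (orbL R20) 0) ≤ finrank ℂ (Γ.Fz 71) := by
  classical
  obtain ⟨-, ⟨hA, hR⟩, -⟩ := mids
  have hf : ∀ i, chkTrT 71 R20 (strata i).down (strata i).β (strata i).T = true ∧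
      (strata i).β ∈ (strata i).down ∧ (strata i).β ∈ orbL R20 ∧
      (∀ r ∈ (strata i).T.map Prod.fst, r < 72) ∧ (orbL ((strata i).T.map Prod.fst)).Nodup ∧
      (orbL ((strata i).T.map Prod.fst)).length = (strata i).e ∧
      ∀ r ∈ orbL ((strata i).T.map Prod.fst), r ∈ orbL R20 := fun i => by
    have h := strata_ok i
    simp only [chkStratum, Bool.and_eq_true, natBeq_eq, decide_eq_true_eq, List.all_eq_true, List.contains_iff_mem,
      Bool.or_eq_true, Bool.not_eq_true', decide_eq_false_iff_not, Nat.blt_eq] at h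
    obtain ⟨⟨⟨⟨⟨⟨⟨⟨⟨⟨a, b⟩, -⟩, -⟩, -⟩, -⟩, c⟩, d⟩, e⟩, f⟩, g⟩ := h
    exact ⟨a, b, c, d, e, f, g⟩
  choose m hm hms hmβ hmg hle using
    fun x : Σ i : Fin 8, {t : Γ.Fix // t.1 ≠ 0} × FP Γ.φ ((strata i).T.map Prod.fst) =>
      Γ.translate_dl hA hR (hf x.1).1 (hf x.1).2.1 ⊤ (fun p _ => Γ.inv_top p.2) x.2.1.1.2 x.2.1.2 (FP.eqv x.2.2)
  simp only [fr_top] at hle
  let M : Option (Σ i : Fin 8, {t : Γ.Fix // t.1 ≠ 0} × FP Γ.φ ((strata i).T.map Prod.fst)) → ℕ → K :=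
    fun o => o.elim 0 m
  refine le_trans ?_ (Γ.sep hR hA.nd M (fun o => by rcases o with _ | x <;> first | exact eqv_zero _ | exact hm x)
    (fun o => Γ.Es 71 (orbL R20) (M o)) (Γ.Fz 71) (fun o => le_inf le_rfl (Γ.Es_le_Fz _)) ?_)
  · rw [Fintype.sum_option, add_comm]
    refine Nat.add_le_add_left ?_ _
    refine le_trans ?_ (Finset.sum_le_sum fun x _ => (Γ.stratum_one hone h70 x.1 x.2.1.1.2 x.2.1.2).trans (hle x))
    rw [← Finset.card_eq_sum_ones, Finset.card_univ, Fintype.card_sigma, Finset.mul_sum]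
    refine le_of_eq (Finset.sum_congr rfl fun i _ => ?_)
    rw [Fintype.card_prod, Γ.card_Fix_ne, Γ.card_T (hf i).2.2.2.1 (hf i).2.2.2.2.1 _ (hf i).2.2.2.2.2.1]
  · have key : ∀ x y, (∀ r ∈ orbL R20, m x r = m y r) → (strata x.1).β ∈ (strata y.1).down := fun x y h => by
      by_contra hn
      have h1 := h _ (hf x.1).2.2.1
      rw [hmβ, hms y _ (hf x.1).2.2.1 hn] at h1
      exact x.2.1.2 h1
    have hnone : ∀ x, ¬∀ r ∈ orbL R20, m x r = 0 := fun x h => by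
      have := h _ (hf x.1).2.2.1
      rw [hmβ] at this
      exact x.2.1.2 this
    rintro (_ | x) (_ | y) h
    · rfl
    · exact absurd (fun r hr => (h r hr).symm) (hnone y)
    · exact absurd h (hnone x)
    · obtain ⟨i, a⟩ := x
      obtain ⟨j, b⟩ := y
      obtain rfl : i = j := strata_anti i j (key ⟨i, a⟩ ⟨j, b⟩ h) (key ⟨j, b⟩ ⟨i, a⟩ fun r hr => (h r hr).symm)
      have hT := (hf i).2.2.2.2.2.2
      refine congrArg some (Sigma.ext rfl (heq_of_eq (Prod.ext (Subtype.ext (Subtype.ext ?_)) (FP.ext_eq fun r hr => ?_))))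
      · have := h _ (hf i).2.2.1
        simp only [M, Option.elim] at this
        rwa [hmβ, hmβ] at this
      · rw [← hmg ⟨i, a⟩ r hr, ← hmg ⟨i, b⟩ r hr]; exact h r (hT r hr)

end Ctx

end Cfsg.Agent.Lib.TE6Deg41
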