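import Cfsg.Agent.Lib.TE6Deg41.Es

/-!
Restricting, gluing, moving and transporting simultaneous eigenvectors.
-/

set_option autoImplicit false
set_option linter.unusedSectionVars false

namespace Cfsg.Agent.Lib.TE6Deg41

open Cfsg.Agent.Lib.Twisted.Core (chkOrth)
open Cfsg.Lie Cfsg.Agent.Lib.Chev Cfsg.Agent.Lib.E6Deg41 Cfsg.Agent.Lib.ChevOver Module

variable {K : Type*} [Field K] [Fintype K] {q : ℕ}
variable {V : Type*} [AddCommGroup V] [Module ℂ V] (Γ : Ctx K q V)

theorem pair_nodup {A : List ℕ} (hA : A.Nodup) (m p : ℕ → K) :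
    pair A m p = (A.map fun r => m r * p r).sum := by
  rw [pair, List.sum_toFinset _ hA]

theorem pair_append {A B : List ℕ} (h : (A ++ B).Nodup) (m p : ℕ → K) :
    pair (A ++ B) m p = pair A m p + pair B m p := by
  have h' := List.nodup_append.1 h
  rw [pair_nodup h, pair_nodup h'.1, pair_nodup h'.2.1, List.map_append, List.sum_append]

/-- A list closed under the symmetry and free of repetitions, inside another. -/
def chkSub (A B : List ℕ) : Bool :=
  decide B.Nodup && B.all fun b => A.contains b && B.contains (sg b) && Nat.blt b 72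

theorem chkSub_iff {A B : List ℕ} : chkSub A B = true ↔
    B.Nodup ∧ ∀ b ∈ B, b ∈ A ∧ sg b ∈ B ∧ b < 72 := by
  simp [chkSub, List.all_eq_true, and_assoc]

namespace Ctx

/-- Restriction to a sublist. -/
theorem sub {z : ℕ} {R : List ℕ} (hA : Ab z (orbL R)) {B : List ℕ} (hB : chkSub (orbL R) B = true) {m : ℕ → K}
    {v : V} (hv : v ∈ Γ.Es z (orbL R) m) : v ∈ Γ.Es z B m := by
  obtain ⟨hnd, hB⟩ := chkSub_iff.1 hB
  intro p hp g hg
  set p' : ℕ → K := fun r => if r ∈ B then p r else 0 with hp'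
  have he : Eqv Γ.φ p' := fun r hr => by
    simp only [Sop, hp']
    by_cases h : r ∈ B
    · rw [if_pos h, if_pos (hB r h).2.1]; exact hp r hr
    · rw [if_neg h, if_neg, map_zero, mul_zero]
      intro e; exact h (sg_sg hr ▸ (hB _ e).2.1)
  have hev : ev Γ.X z (orbL R) p' = ev Γ.X z B p := by
    rw [← ev_lsum Γ.X hA p B fun b hb => (hB b hb).1]
    exact ev_congr Γ.X fun a _ => by rw [lsum_apply p B hnd]
  have hA' : ∀ r ∈ orbL R, r < 72 ∧ zok z r = true := fun r hr => ⟨hA.lt r hr, hA.zk r hr⟩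
  obtain ⟨h1, h3⟩ := (cls_iff Γ.X fun b hb => hA' b (hB b hb).1).1 hg
  rw [hv p' he g ((cls_iff Γ.X hA').2 ⟨h1, h3.trans hev.symm⟩)]
  congr 2
  unfold pair
  refine (Finset.sum_subset (fun b hb => List.mem_toFinset.2 (hB b (List.mem_toFinset.1 hb)).1) fun a _ ha => ?_).symm.trans ?_
  · simp only [hp', if_neg (fun h => ha (List.mem_toFinset.2 h)), mul_zero]
  · exact Finset.sum_congr rfl fun b hb => by simp only [hp', if_pos (List.mem_toFinset.1 hb)]

/-- Forgetting the centre. -/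
theorem forget {z : ℕ} {A : List ℕ} {m : ℕ → K} {v : V} (hv : v ∈ Γ.Es z A m) : v ∈ Γ.Es 72 A m := by
  intro p hp g hg
  obtain ⟨t, ht⟩ := hg
  exact hv p hp g ⟨0, by rw [Γ.X.x_zero, mul_one, ht, x_out Γ.X le_rfl, mul_one]⟩

/-- Eigenvectors orbit by orbit are eigenvectors. -/
theorem glue {z : ℕ} {R : List ℕ} (hR : ∀ r ∈ R, r < 72) (hnd : (orbL R).Nodup) {m : ℕ → K} {v : V}
    (hz : v ∈ Γ.Fz z) (h : ∀ r ∈ R, v ∈ Γ.Es 72 (orb r) m) : v ∈ Γ.Es z (orbL R) m := by
  intro p hp g hg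
  rw [Γ.act_eq hg (Γ.cls_rep hR hp) hz]
  clear hg g
  induction R with
  | nil =>
    rw [show Γ.rep hR hp = 1 from Subtype.ext rfl, map_one]
    simp [pair, orbL]
  | cons r R ih =>
    have hr : ∀ a ∈ [r], a < 72 := by simpa using hR r List.mem_cons_self
    have hR' : ∀ a ∈ R, a < 72 := fun a ha => hR a (List.mem_cons_of_mem _ ha)
    have eo : orbL (r :: R) = orb r ++ orbL R := rfl
    have e1 : orbL [r] = orb r := List.append_nil _
    have e : Γ.rep hR hp = Γ.rep hr hp * Γ.rep hR' hp := Subtype.ext (by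
      show uEl Γ.X (pl (orbL (r :: R)) p) = uEl Γ.X (pl (orbL [r]) p) * uEl Γ.X (pl (orbL R) p)
      rw [eo, e1, pl, List.map_append, uEl_append]; rfl)
    rw [eo] at hnd
    rw [e, Γ.act_mul, ih hR' (List.nodup_append.1 hnd).2.1 (fun a ha => h a (List.mem_cons_of_mem _ ha)), map_smul,
      h r List.mem_cons_self p hp (Γ.rep hr hp) (e1 ▸ Γ.cls_rep hr hp), smul_smul, ← AddChar.map_add_eq_mul, eo,
      pair_append hnd, add_comm]

/-- Sub-orbits inherit. -/
theorem orbit_of_Es {z : ℕ} {R : List ℕ} (hA : Ab z (orbL R)) {m : ℕ → K} {v : V} (hv : v ∈ Γ.Es z (orbL R) m)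
    {r : ℕ} (hr : chkSub (orbL R) (orb r) = true) : v ∈ Γ.Es 72 (orb r) m :=
  Γ.forget (Γ.sub hA hr hv)

/-- The blocks of a word. -/
abbrev bl (φ : K ≃+* K) (l : List (ℕ × K)) : List (ℕ × K) := l.flatMap (blk φ)

/-- The element of a word of blocks. -/
def el {l : List (ℕ × K)} (hl : ∀ p ∈ l, okB Γ.φ p) : ↥(GT K q) :=
  ⟨uEl Γ.X (bl Γ.φ l), Γ.H.bEl_mem Γ.X hl⟩

/-- All blocks of the representatives move the list. -/
def chkMvs (z : ℕ) (R : List ℕ) (e : ℕ) : Bool := (orb e).all fun a => chkMv z (orbL R) a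

omit [Fintype K] in
theorem bl_mv {φ : K ≃+* K} {z : ℕ} {R : List ℕ} {l : List (ℕ × K)} (h : ∀ p ∈ l, chkMvs z R p.1 = true) :
    ∀ a ∈ bl φ l, chkMv z (orbL R) a.1 = true := by
  intro a ha
  obtain ⟨p, hp, ha⟩ := List.mem_flatMap.1 ha
  have := List.all_eq_true.1 (h p hp)
  unfold blk at ha
  unfold orb at this
  split_ifs at ha with e <;> simp [e] at ha this
  · rw [ha]; exact this
  · rcases ha with rfl | rfl
    · exact this.1
    · exact this.2

/-- Moving by a word of blocks. -/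
theorem move_mem {z : ℕ} {R : List ℕ} (hA : Ab z (orbL R)) (hR : ∀ r ∈ R, r < 72) {l : List (ℕ × K)}
    (hl : ∀ p ∈ l, okB Γ.φ p) (hmv : ∀ p ∈ l, chkMvs z R p.1 = true) {m : ℕ → K} {v : V}
    (hv : v ∈ Γ.Es z (orbL R) m) : Γ.π (Γ.el hl) v ∈ Γ.Es z (orbL R) (shW (bl Γ.φ l) m) := by
  intro p hp g hg
  have hw := bl_mv (φ := Γ.φ) hmv
  set u := Γ.el hl
  have h' : Cls Γ.X z (orbL R) (Tw (orbL R) (bl Γ.φ l) p) ((u⁻¹ * g * u : ↥(GT K q)) : ↥(chevE6.group K)) :=
    cls_move Γ.X hA hw hg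
  rw [← Γ.act_mul, show g * u = u * (u⁻¹ * g * u) by group, Γ.act_mul,
    hv _ (eqv_Tw Γ.H.h2 hR hl hp) _ h', map_smul, pair_Tw (fun a ha => (chkMv_iff.1 (hw a ha)).1)]

theorem move_le [FiniteDimensional ℂ V] {z : ℕ} {R : List ℕ} (hA : Ab z (orbL R)) (hR : ∀ r ∈ R, r < 72)
    {l : List (ℕ × K)} (hl : ∀ p ∈ l, okB Γ.φ p) (hmv : ∀ p ∈ l, chkMvs z R p.1 = true) {m m' : ℕ → K}
    (h : ∀ r ∈ orbL R, shW (bl Γ.φ l) m r = m' r) :
    finrank ℂ (Γ.Es z (orbL R) m) ≤ finrank ℂ (Γ.Es z (orbL R) m') :=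
  Γ.finrank_le_of_map (Γ.el hl) fun _ hv => Γ.Es_congr h ▸ Γ.move_mem hA hR hl hmv hv

end Ctx

/-! ### Weyl words -/

/-- The fundamental words commuting with the symmetry. -/
def gens : List (List ℕ) := [[1], [3], [2, 4], [0, 5]]

theorem gens_ok : (gens.all fun L => L.all (fun i => Nat.blt i 6) &&
    ((L == [1] || L == [3]) || (L == [2, 4] || L == [0, 5]))) = true := by decide

theorem orth_ok : (chkOrth chevE6 E 2 4 && chkOrth chevE6 E 0 5 && chkOrth chevE6 E 4 2 && chkOrth chevE6 E 5 0) = true := by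
  decide +kernel

theorem isWord_flatten {W : List (List ℕ)} (hW : ∀ L ∈ W, L ∈ gens) : IsWord chevE6 W.flatten := fun i hi => by
  obtain ⟨L, hL, hi⟩ := List.mem_flatten.1 hi
  have := List.all_eq_true.1 gens_ok L (hW L hL)
  simp only [Bool.and_eq_true, List.all_eq_true, Nat.blt_eq] at this
  exact this.1 i hi

/-- The checks of a word from the list `A` to the list `A'`. -/
def chkW (L : List ℕ) (z z' : ℕ) (A A' : List ℕ) : Bool :=
  ((Nat.ble 72 z && Nat.ble 72 z') || (Nat.blt z 72 && Nat.beq (perm E L z) z')) &&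
    decide A'.Nodup && A'.all fun a =>
      let r := perm E L.reverse a
      Nat.blt a 72 && A'.contains (sg a) && A.contains r && Nat.blt r 72 && Nat.beq (perm E L r) a &&
        Nat.beq (perm E L (sg r)) (sg a) && decide (weta E L (sg r) * ep a = ep r * weta E L r) &&
        (A'.map (perm E L.reverse)).contains (sg r)

variable {φ : K ≃+* K}

theorem Hyp.nS_sig (_H : Hyp K q φ) (X : XK K) {i : ℕ} (hi : i < 6) :
    (Twisted.Core.e6Twist φ).sig (nS X.hh.toChecked K i) = nS X.hh.toChecked K ((Twisted.Core.e6Twist φ).node i) :=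
  (Twisted.Core.e6Twist φ).sig_nS hi

theorem nS_comm (X : XK K) {i j : ℕ} (hi : i < 6) (hj : j < 6) (h : chkOrth chevE6 E i j = true) :
    nS X.hh.toChecked K i * nS X.hh.toChecked K j = nS X.hh.toChecked K j * nS X.hh.toChecked K i := by
  have hh := X.hh.toChecked
  rw [Twisted.Core.Twist.nS_eq_nGL (show i < chevE6.rank from hi), Twisted.Core.Twist.nS_eq_nGL (show j < chevE6.rank from hj)]
  have c1 := fun t u : K => (Twisted.Core.commute_orth hh (F := K) (show i < chevE6.rank from hi)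
    (show j < chevE6.rank from hj) h t u).1
  have c2 := fun t u : K => (Twisted.Core.commute_orth hh (F := K) (show i < chevE6.rank from hi)
    (show j < chevE6.rank from hj) h t u).2.1
  have c3 := fun t u : K => (Twisted.Core.commute_orth hh (F := K) (show i < chevE6.rank from hi)
    (show j < chevE6.rank from hj) h t u).2.2.1
  have c4 := fun t u : K => (Twisted.Core.commute_orth hh (F := K) (show i < chevE6.rank from hi)
    (show j < chevE6.rank from hj) h t u).2.2.2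
  unfold Twisted.Core.Twist.nGL
  exact ((((c1 1 1).mul_right (c2 1 (-(1 : K)⁻¹))).mul_right (c1 1 1)).mul_left
    (((c3 (-(1 : K)⁻¹) 1).mul_right (c4 (-(1 : K)⁻¹) (-(1 : K)⁻¹))).mul_right (c3 (-(1 : K)⁻¹) 1))).mul_left
    (((c1 1 1).mul_right (c2 1 (-(1 : K)⁻¹))).mul_right (c1 1 1))

theorem Hyp.word_mem (H : Hyp K q φ) (X : XK K) {W : List (List ℕ)} (hW : ∀ L ∈ W, L ∈ gens) :
    X.nW W.flatten (isWord_flatten hW) ∈ GT K q := by
  rw [H.mem_GT]
  show (Twisted.Core.e6Twist φ).sig (nProd X.hh.toChecked K W.flatten) = nProd X.hh.toChecked K W.flatten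
  induction W with
  | nil => exact (Twisted.Core.e6Twist φ).sig_one
  | cons L W ih =>
    have hL := hW L List.mem_cons_self
    have hW' : ∀ M ∈ W, M ∈ gens := fun M hM => hW M (List.mem_cons_of_mem _ hM)
    have hwL : IsWord chevE6 L := fun i hi => (isWord_flatten hW) i (List.mem_flatten.2 ⟨L, List.mem_cons_self, hi⟩)
    rw [List.flatten_cons, nProd_append,
      (Twisted.Core.e6Twist φ).sig_mul ((Twisted.Core.e6Twist φ).nProd_mem_group hwL)
        ((Twisted.Core.e6Twist φ).nProd_mem_group (isWord_flatten hW')), ih hW']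
    congr 1
    have ho := orth_ok
    simp only [Bool.and_eq_true] at ho
    have h1 : ∀ i, i < 6 → nProd X.hh.toChecked K [i] = nS X.hh.toChecked K i := fun i _ => by
      rw [nProd_cons]; simp [nProd]
    have single : ∀ i, i < 6 → (Twisted.Core.e6Twist φ).node i = i →
        (Twisted.Core.e6Twist φ).sig (nProd X.hh.toChecked K [i]) = nProd X.hh.toChecked K [i] := fun i hi hn => by
      rw [h1 i hi, H.nS_sig X hi, hn]
    have pair' : ∀ i j, i < 6 → j < 6 → (Twisted.Core.e6Twist φ).node i = j → (Twisted.Core.e6Twist φ).node j = i →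
        chkOrth chevE6 E j i = true →
        (Twisted.Core.e6Twist φ).sig (nProd X.hh.toChecked K [i, j]) = nProd X.hh.toChecked K [i, j] := fun i j hi hj hn hn' hc => by
      have e : nProd X.hh.toChecked K [i, j] = nS X.hh.toChecked K i * nS X.hh.toChecked K j := by
        rw [nProd_cons, h1 j hj]
      have hmem : ∀ k, k < 6 → nS X.hh.toChecked K k ∈ chevE6.group K := fun k hk => by
        rw [← h1 k hk]
        exact (Twisted.Core.e6Twist φ).nProd_mem_group fun a ha => by rw [List.mem_singleton] at ha; subst ha; exact hk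
      rw [e, (Twisted.Core.e6Twist φ).sig_mul (hmem i hi) (hmem j hj), H.nS_sig X hi, H.nS_sig X hj, hn, hn',
        nS_comm X hj hi hc]
    simp only [gens, List.mem_cons, List.not_mem_nil, or_false] at hL
    rcases hL with rfl | rfl | rfl | rfl
    · exact single 1 (by norm_num) rfl
    · exact single 3 (by norm_num) rfl
    · exact pair' 2 4 (by norm_num) (by norm_num) rfl rfl ho.1.2
    · exact pair' 0 5 (by norm_num) (by norm_num) rfl rfl ho.2

theorem conj_uEl (X : XK K) {L : List ℕ} (hL : IsWord chevE6 L) : ∀ {w : List (ℕ × K)}, (∀ p ∈ w, p.1 < 72) →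
    X.nW L hL * uEl X w =
      uEl X (w.map fun p => (perm E L p.1, (weta E L p.1 : K) * p.2)) * X.nW L hL
  | [], _ => by simp [uEl]
  | p :: w, h => by
    have e : X.nW L hL * X.x p.1 p.2 = X.x (perm E L p.1) ((weta E L p.1 : K) * p.2) * X.nW L hL := by
      refine Subtype.ext (Units.ext ?_)
      simp only [Setup.nW, Setup.x, Subgroup.coe_mul, Units.val_mul, coe_xg]
      exact X.hh.toChecked.nProd_mul_x hL (show p.1 < chevE6.nroots from h p List.mem_cons_self) p.2
    rw [List.map_cons, uEl_cons, uEl_cons, ← mul_assoc, e, mul_assoc,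
      conj_uEl X hL fun a ha => h a (List.mem_cons_of_mem _ ha), ← mul_assoc]

namespace Ctx

/-- The element of a word. -/
noncomputable def nw {W : List (List ℕ)} (hW : ∀ L ∈ W, L ∈ gens) : ↥(GT K q) :=
  ⟨Γ.X.nW W.flatten (isWord_flatten hW), Γ.H.word_mem Γ.X hW⟩

/-- Transport along a word. -/
theorem word_mem_Es {W : List (List ℕ)} (hW : ∀ L ∈ W, L ∈ gens) {z z' : ℕ} {R : List ℕ} (hA : Ab z (orbL R))
    {A' : List ℕ} (h : chkW W.flatten z z' (orbL R) A' = true) {m m' : ℕ → K}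
    (hm : ∀ r ∈ orbL R, perm E W.flatten r ∈ A' → m' (perm E W.flatten r) = (weta E W.flatten r : K) * m r)
    {v : V} (hv : v ∈ Γ.Es z (orbL R) m) : Γ.π (Γ.nw hW) v ∈ Γ.Es z' A' m' := by
  set L := W.flatten
  have hL : IsWord chevE6 L := isWord_flatten hW
  simp only [chkW, Bool.and_eq_true, Bool.or_eq_true, Nat.ble_eq, Nat.blt_eq, natBeq_eq, decide_eq_true_eq,
    List.all_eq_true, List.contains_iff_mem] at h
  obtain ⟨⟨hz, hnd⟩, hA'⟩ := h
  set B := A'.map (perm E L.reverse) with hBdef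
  have hpre : ∀ b ∈ B, perm E L b ∈ A' ∧ perm E L.reverse (perm E L b) = b := fun b hb => by
    obtain ⟨a, ha, rfl⟩ := List.mem_map.1 hb
    rw [(hA' a ha).1.1.1.2]; exact ⟨ha, rfl⟩
  have hBnd : B.Nodup := by
    refine hnd.map_on fun a ha b hb e => ?_
    rw [← (hA' a ha).1.1.1.2, ← (hA' b hb).1.1.1.2, e]
  have hB : chkSub (orbL R) B = true := chkSub_iff.2 ⟨hBnd, fun b hb => by
    obtain ⟨a, ha, rfl⟩ := List.mem_map.1 hb
    obtain ⟨⟨⟨⟨⟨⟨⟨h1, h3⟩, h4⟩, h5⟩, h6⟩, h7⟩, h8⟩, h9⟩ := hA' a ha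
    exact ⟨h4, h9, h5⟩⟩
  have hvB := Γ.sub hA hB hv
  intro p hp g hg
  set n := Γ.nw hW
  set p0 : ℕ → K := fun r => if r ∈ B then (weta E L r : K) * p (perm E L r) else 0 with hp0
  have he : Eqv Γ.φ p0 := fun r hr => by
    simp only [Sop, hp0]
    by_cases hb : r ∈ B
    · rw [if_pos hb, if_pos ((chkSub_iff.1 hB).2 r hb).2.1]
      obtain ⟨a, ha, rfl⟩ := List.mem_map.1 hb
      obtain ⟨⟨⟨⟨⟨⟨⟨h1, h3⟩, h4⟩, h5⟩, h6⟩, h7⟩, h8⟩, h9⟩ := hA' a ha
      rw [h6, h7, map_mul, map_intCast, hp.apply_sg h1, map_mul, map_intCast, Γ.H.h2]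
      have e8 : (weta E L (sg (perm E L.reverse a)) : K) * ep a =
          (ep (perm E L.reverse a) : K) * weta E L (perm E L.reverse a) := by
        have := congrArg (Int.cast : ℤ → K) h8; push_cast at this; exact this
      have e1 := ep_sq (K := K) h5
      linear_combination ((ep (perm E L.reverse a) : K) * p a) * e8 +
        ((weta E L (perm E L.reverse a) : K) * p a) * e1
    · rw [if_neg hb, if_neg, map_zero, mul_zero]
      intro e; exact hb (sg_sg hr ▸ ((chkSub_iff.1 hB).2 _ e).2.1)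
  obtain ⟨t, ht⟩ := hg
  have hconj : Cls Γ.X z B p0 ((n⁻¹ * g * n : ↥(GT K q)) : ↥(chevE6.group K)) := by
    obtain ⟨s, hs⟩ : ∃ s, Γ.X.nW L hL * Γ.X.x z s = Γ.X.x z' t * Γ.X.nW L hL := by
      rcases hz with ⟨hz1, hz2⟩ | ⟨hz1, hz2⟩
      · exact ⟨0, by rw [Γ.X.x_zero, mul_one, x_out Γ.X hz2, one_mul]⟩
      · refine ⟨(weta E L z : K) * t, ?_⟩
        have := conj_uEl Γ.X hL (w := [(z, (weta E L z : K) * t)]) (by simp [hz1])
        simp only [uEl_cons, uEl_nil, mul_one, List.map_cons, List.map_nil, hz2, ← mul_assoc] at this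
        have e : (weta E L z : K) * weta E L z = 1 := by
          rcases weta_cases (C := E) L z with w | w <;> simp [w]
        rw [e, one_mul] at this
        exact this
    refine ⟨s, ?_⟩
    show (Γ.X.nW L hL)⁻¹ * (g : ↥(chevE6.group K)) * Γ.X.nW L hL = _
    rw [mul_assoc, inv_mul_eq_iff_eq_mul, ← mul_assoc, conj_uEl Γ.X hL fun a ha => by
        obtain ⟨b, hb, rfl⟩ := List.mem_map.1 ha; exact ((chkSub_iff.1 hB).2 b hb).2.2,
      mul_assoc _ (Γ.X.nW L hL), hs, ← mul_assoc, ht]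
    congr 3
    rw [hBdef, pl, pl, List.map_map, List.map_map]
    refine List.map_congr_left fun a ha => ?_
    have hb : perm E L.reverse a ∈ B := List.mem_map.2 ⟨a, ha, rfl⟩
    simp only [Function.comp_apply, hp0, if_pos hb, (hA' a ha).1.1.1.2]
    rw [← mul_assoc]
    rcases weta_cases (C := E) L (perm E L.reverse a) with w | w <;> simp [w]
  rw [← Γ.act_mul, show g * n = n * (n⁻¹ * g * n) by group, Γ.act_mul, hvB p0 he _ hconj, map_smul]
  congr 2
  rw [pair_nodup hBnd, pair_nodup hnd, hBdef, List.map_map]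
  refine congrArg List.sum (List.map_congr_left fun a ha => ?_)
  have hb : perm E L.reverse a ∈ B := List.mem_map.2 ⟨a, ha, rfl⟩
  obtain ⟨⟨⟨⟨⟨⟨⟨h1, h3⟩, h4⟩, h5⟩, h6⟩, h7⟩, h8⟩, h9⟩ := hA' a ha
  have := hm _ h4 (by rw [h6]; exact ha)
  rw [h6] at this
  simp only [Function.comp_apply, hp0, if_pos hb, h6, this]
  ring

theorem word_le [FiniteDimensional ℂ V] {W : List (List ℕ)} (hW : ∀ L ∈ W, L ∈ gens) {z z' : ℕ} {R : List ℕ}
    (hA : Ab z (orbL R)) {A' : List ℕ} (h : chkW W.flatten z z' (orbL R) A' = true) {m m' : ℕ → K}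
    (hm : ∀ r ∈ orbL R, perm E W.flatten r ∈ A' → m' (perm E W.flatten r) = (weta E W.flatten r : K) * m r) :
    finrank ℂ (Γ.Es z (orbL R) m) ≤ finrank ℂ (Γ.Es z' A' m') :=
  Γ.finrank_le_of_map (Γ.nw hW) fun _ hv => Γ.word_mem_Es hW hA h hm hv

end Ctx

end Cfsg.Agent.Lib.TE6Deg41
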