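import Cfsg.Agent.Lib.TE6Deg41.Middle

/-!
The vectors fixed by all roots at distance one: characters of the roots of level one in the Levi subgroup.
-/

set_option autoImplicit false
set_option linter.unusedSectionVars false
set_option maxRecDepth 8000

namespace Cfsg.Agent.Lib.TE6Deg41

open scoped Classical
open Cfsg.Lie Cfsg.Agent.Lib.Chev Cfsg.Agent.Lib.E6Deg41 Module
open Cfsg.Agent.Lib.E6Deg41.Setup (shM shM_some shM_keep)

/-- The roots at distance one other than the second fundamental root. -/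
def R19 : List ℕ := [70, 69, 65, 53, 54, 55, 66, 47, 51, 63, 48, 49, 52]
/-- The roots of level one in the Levi subgroup. -/
def S9 : List ℕ := [39, 44, 60, 40, 41, 45]
/-- The same without the fundamental one. -/
def S8 : List ℕ := [44, 60, 40, 41, 45]
/-- Stabilisers of the character at `47`: `(η, a, b)` with `a + b = η`. -/
def stTab : List (ℕ × ℕ × ℕ) := [(40, 35, 41), (41, 36, 40), (44, 35, 45), (45, 38, 43), (60, 38, 58)]
/-- The word from `47` back to `70`. -/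
def W47 : List (List ℕ) := [[3], [2, 4], [0, 5], [3], [2, 4]]
/-- The word from `46` back to `70`. -/
def W46 : List (List ℕ) := [[3], [2, 4], [0, 5], [3], [2, 4], [3]]

/-- One stabilising element killing one value. -/
def chkSt (β : ℕ) (S : List ℕ) (p : ℕ × ℕ × ℕ) : Bool :=
  let η := p.1
  let a := p.2.1
  let b := p.2.2
  Ctx.chkMvs 71 R20 a && Ctx.chkMvs 71 S a && decide (sm E a b = some η) && (orbL S).contains b &&
    (orb a).all (fun f => (orbL R20).all fun x => !decide (sm E f x = some β)) &&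
    (Nat.beq (sg a) a || (decide (sm E (sg a) b = none) && decide (sm E (sg a) η = none)))

/-- All the roots of a list stabilise the character at `β`. -/
def chkStAll (β : ℕ) (S : List ℕ) : Bool :=
  S.all fun r => Ctx.chkMvs 71 R20 r && (orb r).all fun f => (orbL R20).all fun x => !decide (sm E f x = some β)

/-- The word back to `70`. -/
def chkBack (W : List (List ℕ)) (β : ℕ) : Bool :=
  (W.all fun L => gens.contains L) && chkW W.flatten 71 71 (orbL R20) (orbL R20) &&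
    Nat.beq (perm E W.flatten β) 70 && (orbL R20).all fun r => !Nat.beq (perm E W.flatten r) 70 || Nat.beq r β

theorem sieg_ok : (chkAb 71 R19 && chkAb 71 S9 && chkAb 71 S8 && chkAb 71 [46] && chkAb 71 [39, 47] &&
    chkStAll 47 S8 && chkStAll 46 S9 && stTab.all (chkSt 47 S8) && chkSt 46 S9 (39, 14, 58) &&
    chkBack W47 47 && chkBack W46 46 && Ctx.chkMvs 71 R20 39 && Ctx.chkMvs 71 S8 39 &&
    chkSub (orbL R20) (orbL R19) && Ctx.chkMvs 71 [39, 47] 46 &&
    (orbL [39, 47]).all (fun x => keepz (orbL [39, 47]) [39] 46 x) &&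
    decide (sm E 39 46 = some 47) &&
    ((orbL R19).all fun x => !decide (sm E 39 x = some 47)) &&
    ((71 :: (R19 ++ S9)).all fun r => Nat.blt (perm E [1] r) 72 && chkW [1] 72 72 (orbL [perm E [1] r]) (orb r) &&
      chkAb 72 [perm E [1] r] && ((Nat.beq (perm E [1] r) 39) || (Nat.beq (perm E [1] r) 71) ||
        chkSub (orbL R19) (orbL [perm E [1] r]) || chkSub (orbL S8) (orbL [perm E [1] r]))) &&
    (List.range 72).all (fun x => !Nat.beq (perm E [1] x) 39 || Nat.beq x 47) &&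
    Nat.beq (perm E [1] 47) 39 &&
    (stTab.map fun p => p.1) == [40, 41, 44, 45, 60] &&
    chkAb 72 [46] && chkSub (orbL R20) (orb 46) && chkSub (orbL [39, 47]) (orbL [39]) &&
    chkSub (orbL S9) (orbL [39]) && (R19.all fun r => chkSub (orbL R19) (orb r)) &&
    chkSub (orbL R19) (orbL [47])) = true := by decide +kernel

theorem misc_facts : orbL [39] = [39] ∧ orb 39 = [39] ∧ orbL [46] = [46] ∧ orb 46 = [46] ∧ orb 47 = [47] ∧
    orbL [39, 47] = [39, 47] ∧ sg 39 = 39 ∧ sg 47 = 47 ∧ orbL R20 = orbL R20 ∧ sg 46 = 46 ∧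
    (∀ r ∈ orbL R20, r ≠ 46 → r ∈ orbL R19) ∧ (∀ r ∈ orbL S8, ∃ η ∈ [40, 41, 44, 45, 60], r = η ∨ r = sg η) ∧
    (∀ r ∈ orbL R19, r ≠ 46 ∧ r ≠ 39) ∧ (∀ r ∈ orbL S8, r ≠ 47) ∧ (∀ r ∈ R19, r ∈ R20) ∧
    (∀ r ∈ R20, r = 46 ∨ r ∈ R19) := by decide +kernel

variable {K : Type*} [Field K] [Fintype K] {q : ℕ} {V : Type*} [AddCommGroup V] [Module ℂ V] (Γ : Ctx K q V)

namespace Ctx

theorem shW_keep_dl {A : List ℕ} {β : ℕ} (c : K) : ∀ (w : List (ℕ × K)),
    (∀ p ∈ w, chkCl A p.1 = true) → (∀ p ∈ w, ∀ x ∈ A, sm E p.1 x ≠ some β) →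
    ∀ x ∈ A, shW w (dl β c) x = dl β c x
  | [], _, _, _, _ => rfl
  | p :: w, hcl, hn, x, hx => by
    have ih := shW_keep_dl c w (fun p hp => hcl p (List.mem_cons_of_mem _ hp))
      (fun p hp => hn p (List.mem_cons_of_mem _ hp))
    show shM E p.1 p.2 (shW w (dl β c)) x = _
    rw [shM_keep (fun a ha => ?_), ih x hx]
    rw [ih a ((chkCl_iff.1 (hcl p List.mem_cons_self)).2 x hx a ha), dl_ne]
    intro e; exact hn p List.mem_cons_self x hx (e ▸ ha)

theorem el_pl {R : List ℕ} (hR : ∀ r ∈ R, r < 72) {p : ℕ → K} (hp : Eqv Γ.φ p) :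
    Γ.rep hR hp = Γ.el (okB_pl hR hp) :=
  Subtype.ext (congrArg (uEl Γ.X) (pl_orbL hR hp).symm)

variable [FiniteDimensional ℂ V]

/-- A block stabilising a character of multiplicity one acts on its line by a scalar. -/
theorem line_scalar {β : ℕ} {t : K} (hle : finrank ℂ (Γ.Es 71 (orbL R20) (dl β t)) ≤ 1) {v : V}
    (hv : v ∈ Γ.Es 71 (orbL R20) (dl β t)) (hv0 : v ≠ 0) {l : List (ℕ × K)} (hl : ∀ p ∈ l, okB Γ.φ p)
    (hmv : ∀ p ∈ l, Ctx.chkMvs 71 R20 p.1 = true)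
    (hst : ∀ p ∈ l, ∀ f ∈ orb p.1, ∀ x ∈ orbL R20, sm E f x ≠ some β) :
    ∃ c : ℂ, Γ.π (Γ.el hl) v = c • v := by
  obtain ⟨-, ⟨hA, hR⟩, -⟩ := mids
  have hw := bl_mv (φ := Γ.φ) hmv
  have h := Γ.move_mem hA hR hl hmv hv
  rw [Γ.Es_congr (m' := dl β t) (shW_keep_dl t _ (fun p hp => (chkMv_iff.1 (hw p hp)).1) fun a ha => ?_)] at h
  · have h1 : finrank ℂ (Γ.Es 71 (orbL R20) (dl β t)) = 1 := le_antisymm hle (one_le_of_mem hv hv0)
    obtain ⟨c, hc⟩ := (finrank_eq_one_iff_of_nonzero' (⟨v, hv⟩ : Γ.Es 71 (orbL R20) (dl β t))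
      (fun e => hv0 (congrArg Subtype.val e))).1 h1 ⟨_, h⟩
    exact ⟨c, (congrArg Subtype.val hc).symm⟩
  · obtain ⟨p, hp, ha⟩ := List.mem_flatMap.1 ha
    refine hst p hp a.1 ?_
    unfold blk at ha
    unfold orb
    split_ifs at ha with e <;> simp [e] at ha ⊢
    · exact ha ▸ rfl
    · rcases ha with rfl | rfl
      · exact Or.inl rfl
      · exact Or.inr rfl

/-- A stable line carries a character of a commuting list, vanishing where a stabiliser moves it. -/
theorem stable_char {β : ℕ} {t : K} (hle : finrank ℂ (Γ.Es 71 (orbL R20) (dl β t)) ≤ 1) {v : V}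
    (hv : v ∈ Γ.Es 71 (orbL R20) (dl β t)) (hv0 : v ≠ 0) {S : List ℕ} (hS : chkAb 71 S = true)
    (hst : chkStAll β S = true) :
    ∃ m, Eqv Γ.φ m ∧ v ∈ Γ.Es 71 (orbL S) m ∧ ∀ p, chkSt β S p = true → m p.1 = 0 := by
  obtain ⟨hA, hR⟩ := chkA hS
  simp only [chkStAll, List.all_eq_true, Bool.and_eq_true, Bool.not_eq_true', decide_eq_false_iff_not] at hst
  obtain ⟨m, hm, hne, hmem⟩ := Γ.exists_comp hR hA (Γ.Es_le_Fz _ hv) hv0
  have hspan : Γ.proj hR m v ∈ Submodule.span ℂ {v} := Γ.proj_mem hR m fun p hp => by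
    rw [Γ.el_pl hR hp]
    obtain ⟨c, hc⟩ := Γ.line_scalar hle hv hv0 (okB_pl hR hp) (fun x hx => by
      obtain ⟨r, hr, rfl⟩ := List.mem_map.1 hx; exact (hst r hr).1) (fun x hx => by
      obtain ⟨r, hr, rfl⟩ := List.mem_map.1 hx; exact (hst r hr).2)
    rw [hc]; exact Submodule.smul_mem _ _ (Submodule.mem_span_singleton_self v)
  obtain ⟨c, hc⟩ := Submodule.mem_span_singleton.1 hspan
  have hc0 : c ≠ 0 := fun e => hne (by rw [← hc, e, zero_smul])
  have hvS : v ∈ Γ.Es 71 (orbL S) m := by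
    rw [← hc] at hmem
    simpa [smul_smul, inv_mul_cancel₀ hc0] using Submodule.smul_mem _ c⁻¹ hmem
  refine ⟨m, hm, hvS, ?_⟩
  rintro ⟨η, a, b⟩ hp
  simp only [chkSt, Bool.and_eq_true, Bool.or_eq_true, natBeq_eq, decide_eq_true_eq, List.all_eq_true,
    Bool.not_eq_true', decide_eq_false_iff_not, List.contains_iff_mem] at hp
  obtain ⟨⟨⟨⟨⟨h1, h2⟩, h3⟩, h4⟩, h5⟩, h6⟩ := hp
  have ha : a < 72 := (chkCl_iff.1 (chkMv_iff.1 (List.all_eq_true.1 h2 a (self_mem_orb a))).1).1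
  have hl : ∀ p ∈ [(a, (1 : K))], okB Γ.φ p := by
    intro p hp; rw [List.mem_singleton] at hp; subst hp; exact ⟨ha, fun _ => map_one _⟩
  have hmv : ∀ p ∈ [(a, (1 : K))], Ctx.chkMvs 71 S p.1 = true := by
    intro p hp; rw [List.mem_singleton] at hp; subst hp; exact h2
  obtain ⟨d, hd⟩ := Γ.line_scalar hle hv hv0 hl (fun p hp => by rw [List.mem_singleton] at hp; subst hp; exact h1)
    (fun p hp => by rw [List.mem_singleton] at hp; subst hp; exact h5)
  have hd0 : d ≠ 0 := fun e => hv0 (Γ.act_injective (Γ.el hl) (by rw [hd, e, zero_smul, map_zero]))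
  have hmove := Γ.move_mem hA hR hl hmv hvS
  rw [hd] at hmove
  have hb := Γ.uniq hR hA.nd (hm.shW Γ.H.h2 hl) hm hv0
    (by simpa [smul_smul, inv_mul_cancel₀ hd0] using Submodule.smul_mem _ d⁻¹ hmove) hvS b h4
  have hN : (Nc E a b : K) ≠ 0 :=
    (Γ.X.Nc_unit (show a < chevE6.nroots from ha) (show b < chevE6.nroots from hA.lt b h4)
      ((chkMv_iff.1 (List.all_eq_true.1 h2 a (self_mem_orb a))).2.2 b h4) h3).2
  show m η = 0
  by_cases hse : sg a = a
  · rw [show [(a, (1 : K))].flatMap (blk Γ.φ) = [(a, 1)] by simp [blk, hse]] at hb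
    rw [show shW [(a, (1 : K))] m = shM E a 1 m from rfl, shM_some h3] at hb
    simpa [sub_eq_self, hN] using hb
  · obtain ⟨n1, n2⟩ := h6.resolve_left hse
    rw [show [(a, (1 : K))].flatMap (blk Γ.φ) = [(a, 1), (sg a, (ep a : K) * Γ.φ 1)] by simp [blk, hse]] at hb
    rw [show shW [(a, (1 : K)), (sg a, (ep a : K) * Γ.φ 1)] m = shM E a 1 (shM E (sg a) ((ep a : K) * Γ.φ 1) m)
      from rfl, shM_some h3, shM_keep (fun x hx => by rw [n1] at hx; cases hx),
      shM_keep (fun x hx => by rw [n2] at hx; cases hx)] at hb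
    simpa [sub_eq_self, hN] using hb

theorem back_le (h70 : ∀ t, Γ.φ t = t → t ≠ 0 → Γ.n70 t = 1) {W : List (List ℕ)} {β : ℕ}
    (h : chkBack W β = true) {t : K} (ht : Γ.φ t = t) (ht0 : t ≠ 0) :
    finrank ℂ (Γ.Es 71 (orbL R20) (dl β t)) ≤ 1 := by
  obtain ⟨-, ⟨hA, hR⟩, -, hsub, -⟩ := mids
  simp only [chkBack, Bool.and_eq_true, natBeq_eq, List.all_eq_true, List.contains_iff_mem, Bool.or_eq_true,
    Bool.not_eq_true', decide_eq_false_iff_not, decide_eq_true_eq] at h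
  obtain ⟨⟨⟨hW, hchk⟩, hperm⟩, huni⟩ := h
  set c : K := (weta E W.flatten β : K) with hc
  refine le_trans (Γ.word_le hW hA hchk (m' := dl 70 (c * t)) fun r hr hr' => ?_) ?_
  · by_cases e : r = β
    · subst e; rw [hperm, dl_self, dl_self]
    · rw [dl_ne _ e, mul_zero, dl_ne]
      exact (huni r hr).resolve_right e
  · have hs : Γ.φ (c * t) = c * t := by rw [map_mul, hc, map_intCast, ht]
    have hs0 : c * t ≠ 0 := mul_ne_zero (weta_ne' _ _) ht0
    exact le_trans (Submodule.finrank_mono fun v hv => Γ.sub hA hsub hv) (h70 _ hs hs0).le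
where
  weta_ne' (L : List ℕ) (r : ℕ) : (weta E L r : K) ≠ 0 := by
    rcases weta_cases (C := E) L r with w | w <;> simp [w]

theorem el_one {e : ℕ} (he : sg e = e) {s : K} (hl : ∀ p ∈ [(e, s)], okB Γ.φ p) :
    ((Γ.el hl : ↥(GT K q)) : ↥(chevE6.group K)) = Γ.X.x e s := by
  show uEl Γ.X (bl Γ.φ [(e, s)]) = _
  simp [bl, blk, he, uEl]

/-- A vector fixed by all roots at distance one and carried by the fundamental root of level one. -/
theorem siegel39 (hone : ∀ t, Γ.φ t = t → t ≠ 0 → Γ.n11 t = 1)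
    (h70 : ∀ t, Γ.φ t = t → t ≠ 0 → Γ.n70 t = 1) {t : K} (ht : Γ.φ t = t) (ht0 : t ≠ 0) :
    1 ≤ finrank ℂ ↥(Γ.Es 71 (orbL S9) (dl 39 t) ⊓ Γ.Es 71 (orbL R20) 0) := by
  obtain ⟨-, ⟨hA, hR⟩, -⟩ := mids
  have h := sieg_ok
  simp only [Bool.and_eq_true] at h
  obtain ⟨⟨⟨⟨⟨⟨⟨⟨⟨⟨⟨⟨⟨⟨⟨⟨⟨⟨⟨⟨⟨⟨⟨⟨⟨⟨⟨c19, c9⟩, c8⟩, c46⟩, cB⟩, st8⟩, st9⟩, stt⟩, st39⟩, b47⟩, b46⟩, m39⟩, m39'⟩,
    s19⟩, mB⟩, kB⟩, h3946⟩, k39⟩, htg⟩, hu39⟩, hp47⟩, -⟩, c46'⟩, so46⟩, sB39⟩, s939⟩, s19o⟩, s1947⟩ := h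
  obtain ⟨e39, o39, e46, o46, o47, eB, hs39, hs47, -, hs46, hR20', hS8, hne19, hS847, -, hR20rep⟩ := misc_facts
  obtain ⟨hA19, hR19⟩ := chkA c19
  obtain ⟨hA9, hR9⟩ := chkA c9
  obtain ⟨hA8, hR8⟩ := chkA c8
  obtain ⟨hA46, hR46⟩ := chkA c46
  obtain ⟨hAB, hRB⟩ := chkA cB
  have hp47' : perm E [1] 47 = 39 := by simpa using hp47
  have hu39' : ∀ x < 72, perm E [1] x = 39 → x = 47 := fun x hx e => by
    have := List.all_eq_true.1 hu39 x (List.mem_range.2 hx)
    simpa [e] using this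
  set c : K := (weta E [1] 47 : K) with hc
  have hcc : c * c = 1 := by rcases weta_cases (C := E) [1] 47 with w | w <;> simp [hc, w]
  set s : K := c * t
  have hs : Γ.φ s = s := by rw [map_mul, hc, map_intCast, ht]
  have hs0 : s ≠ 0 := mul_ne_zero (fun e => by rw [e] at hcc; simp at hcc) ht0
  -- the vector at `47`
  obtain ⟨v, hv, hv0⟩ := exists_of_one_le (Γ.stratum_one hone h70 1 hs hs0)
  change v ∈ Γ.Es 71 (orbL R20) (dl 47 s) at hv
  obtain ⟨m, hm, hvm, hzero⟩ := Γ.stable_char (Γ.back_le h70 b47 hs hs0) hv hv0 c8 st8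
  have hv8 : v ∈ Γ.Es 71 (orbL S8) 0 := by
    rw [← Γ.Es_congr (m := m) fun r hr => ?_]
    · exact hvm
    obtain ⟨η, hη, hr'⟩ := hS8 r hr
    have hηz : m η = 0 := by
      have hmem : η ∈ stTab.map fun p => p.1 := by simpa [stTab] using hη
      obtain ⟨p, hp, rfl⟩ := List.mem_map.1 hmem
      exact hzero p (List.all_eq_true.1 stt p hp)
    rcases hr' with rfl | rfl
    · exact hηz
    · have hη' : η < 72 := by
        simp only [List.mem_cons, List.not_mem_nil, or_false] at hη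
        omega
      rw [hm.apply_sg hη', hηz, map_zero, mul_zero]; rfl
  -- its average over the fundamental root of level one
  have hl39 : ∀ u : Γ.Fix, ∀ p ∈ [(39, u.1)], okB Γ.φ p := by
    intro u p hp; rw [List.mem_singleton] at hp; subst hp; exact ⟨by norm_num, fun _ => u.2⟩
  have hmv39 : ∀ {R : List ℕ} (u : K), Ctx.chkMvs 71 R 39 = true → ∀ p ∈ [(39, u)], Ctx.chkMvs 71 R p.1 = true := by
    intro R u hh p hp; rw [List.mem_singleton] at hp; subst hp; exact hh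
  have hbl : ∀ u : K, bl Γ.φ [(39, u)] = [(39, u)] := fun u => by simp [bl, blk, hs39]
  set z : V := ∑ u : Γ.Fix, Γ.π (Γ.el (hl39 u)) v with hz
  have hterm : ∀ u : Γ.Fix, Γ.π (Γ.el (hl39 u)) v ∈ Γ.Es 71 (orbL R20) (shM E 39 u.1 (dl 47 s)) := fun u => by
    have := Γ.move_mem hA hR (hl39 u) (hmv39 u.1 m39) hv
    rwa [hbl] at this
  have hz19 : z ∈ Γ.Es 71 (orbL R19) (dl 47 s) := Submodule.sum_mem _ fun u _ => by
    rw [← Γ.Es_congr (m := shM E 39 u.1 (dl 47 s)) fun r hr => ?_]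
    · exact Γ.sub hA s19 (hterm u)
    · refine shM_keep (fun a ha => dl_ne _ fun e => ?_) _
      have := List.all_eq_true.1 k39 r hr
      simp [e ▸ ha] at this
  have hz8 : z ∈ Γ.Es 71 (orbL S8) 0 := Submodule.sum_mem _ fun u _ =>
    Γ.inv_zero hA8 hR8 m39' u.1 (hl39 u) v hv8
  have hzF : z ∈ Γ.Fz 71 := Γ.Es_le_Fz _ hz19
  have hz39 : z ∈ Γ.Es 72 (orbL [39]) 0 := by
    intro p hp g hg
    obtain ⟨u, hu⟩ := hg
    let u0 : Γ.Fix := ⟨p 39, hp.fix (by norm_num) hs39⟩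
    have eg : g = Γ.el (hl39 u0) := Subtype.ext (by
      rw [hu, Γ.el_one hs39]; simp [e39, pl, uEl, x_out Γ.X le_rfl, u0])
    rw [pair_comm, show pair (orbL [39]) p (0 : ℕ → K) = 0 from pair_zero _ _, AddChar.map_zero_eq_one, one_smul,
      hz, map_sum]
    let σ : Γ.Fix ≃ Γ.Fix :=
      { toFun := fun u => ⟨u0.1 + u.1, by rw [map_add, u0.2, u.2]⟩
        invFun := fun u => ⟨-u0.1 + u.1, by rw [map_add, map_neg, u0.2, u.2]⟩
        left_inv := fun u => Subtype.ext (neg_add_cancel_left _ _)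
        right_inv := fun u => Subtype.ext (add_neg_cancel_left _ _) }
    refine Fintype.sum_equiv σ _ _ fun u => ?_
    rw [← Γ.act_mul, eg, show Γ.el (hl39 u0) * Γ.el (hl39 u) = Γ.el (hl39 (σ u)) from Subtype.ext (by
      rw [Subgroup.coe_mul, Γ.el_one hs39, Γ.el_one hs39, Γ.el_one hs39, ← Γ.X.x_add]; rfl)]
  have hzne : z ≠ 0 := by
    intro e
    have hN : (Nc E 39 46 : K) ≠ 0 :=
      (Γ.X.Nc_unit (show 39 < chevE6.nroots by decide) (show 46 < chevE6.nroots by decide) (by decide +kernel)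
        (by simpa using h3946)).2
    have h46 : (46 : ℕ) ∈ orbL R20 := ((chkSub_iff.1 so46).2 46 (self_mem_orb 46)).1
    have hpr : Γ.proj hR (dl 47 s) z = v := by
      rw [hz, map_sum]
      rw [Finset.sum_eq_single (⟨0, map_zero _⟩ : Γ.Fix)]
      · have e1 : Γ.el (hl39 ⟨0, map_zero _⟩) = 1 := Subtype.ext (by rw [Γ.el_one hs39, Γ.X.x_zero]; rfl)
        rw [e1, map_one, Module.End.one_apply,
          Γ.proj_of_Es hR hA.nd (eqv_dl _ hs47 hs) (eqv_dl _ hs47 hs) hv, if_pos fun _ _ => rfl]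
      · intro u _ hu
        have heq : Eqv Γ.φ (shM E 39 u.1 (dl 47 s)) := by
          have := (eqv_dl Γ.φ hs47 hs).shW Γ.H.h2 (hl39 u)
          rw [show List.flatMap (blk Γ.φ) [(39, u.1)] = [(39, u.1)] from hbl u.1] at this
          exact this
        rw [Γ.proj_of_Es hR hA.nd (eqv_dl _ hs47 hs) heq (hterm u), if_neg]
        intro hall
        have h1 := hall 46 h46
        rw [shM_some (show sm E 39 46 = some 47 by simpa using h3946), dl_ne _ (by norm_num), dl_self] at h1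
        refine hu (Subtype.ext ?_)
        show u.1 = 0
        have h2 : (Nc E 39 46 : K) * u.1 * s = 0 := by linear_combination h1
        simpa [hN, hs0] using h2
      · intro hh; exact absurd (Finset.mem_univ _) hh
    rw [e, map_zero] at hpr
    exact hv0 hpr.symm
  -- its reflection at the second fundamental root
  have hw1 : ∀ L ∈ [[1]], L ∈ gens := by simp [gens]
  set w := Γ.π (Γ.nw hw1) z with hw
  have hw0 : w ≠ 0 := fun e => hzne (Γ.act_injective (Γ.nw hw1) (by rw [← hw, e, map_zero]))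
  have hworb : ∀ r ∈ 71 :: (R19 ++ S9), w ∈ Γ.Es 72 (orb r) (dl 39 t) := by
    intro r hr
    have hh := List.all_eq_true.1 htg r hr
    simp only [Bool.and_eq_true, Bool.or_eq_true, natBeq_eq, decide_eq_true_eq] at hh
    obtain ⟨⟨⟨hlt, hW⟩, hab⟩, hsrc⟩ := hh
    have hsr : z ∈ Γ.Es 72 (orbL [perm E [1] r]) (dl 47 s) := by
      rcases hsrc with ((e | e) | e) | e
      · rw [e, Γ.Es_congr (m' := 0) fun a ha => ?_]
        · exact hz39
        · rw [e39, List.mem_singleton] at ha; subst ha; exact dl_ne _ (by norm_num)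
      · intro p hp g hg
        rw [e, orb_facts.1] at hg ⊢
        obtain ⟨u, hu⟩ := hg
        have hmem : Γ.X.x 71 (p 71) ∈ GT K q :=
          (Γ.H.z_mem_GT Γ.X (by norm_num) orb_facts.2.2.2.2.1).2 (hp.fix (by norm_num) orb_facts.2.2.2.2.1)
        rw [show g = ⟨_, hmem⟩ from Subtype.ext (by rw [hu]; simp [pl, uEl, x_out Γ.X le_rfl]), Γ.mem_Fz.1 hzF]
        simp [pair, dl_ne]
      · exact Γ.forget (Γ.sub hA19 e hz19)
      · rw [Γ.Es_congr (m' := 0) fun a ha => dl_ne _ (hS847 a ((chkSub_iff.1 e).2 a ha).1)]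
        exact Γ.forget (Γ.sub hA8 e hz8)
    refine Γ.word_mem_Es hw1 (ab_of_chk hab) hW (fun x hx hx' => ?_) hsr
    have hx72 : x < 72 := orbL_lt (fun a ha => by rw [List.mem_singleton] at ha; subst ha; simpa using hlt) hx
    show dl 39 t (perm E [1] x) = (weta E [1] x : K) * dl 47 s x
    by_cases e : x = 47
    · subst e; rw [hp47', dl_self, dl_self]; show t = c * (c * t); rw [← mul_assoc, hcc, one_mul]
    · rw [dl_ne _ e, mul_zero, dl_ne]
      exact fun e' => e (hu39' x hx72 e')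
  have hwF : w ∈ Γ.Fz 71 := Γ.mem_Fz.2 fun u hu => by
    have hs71 := orb_facts.2.2.2.2.1
    have hu' := (Γ.H.z_mem_GT Γ.X (by norm_num) hs71).1 hu
    rw [hworb 71 List.mem_cons_self (dl 71 u) (eqv_dl _ hs71 hu') ⟨_, hu⟩
      ⟨0, by simp [orb_facts.2.1, pl, uEl, dl_self, Γ.X.x_zero]⟩]
    simp [pair, orb_facts.2.1, dl_ne]
  have hw9 : w ∈ Γ.Es 71 (orbL S9) (dl 39 t) := Γ.glue hR9 hA9.nd hwF fun r hr =>
    hworb r (List.mem_cons_of_mem _ (List.mem_append_right _ hr))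
  have hw19 : w ∈ Γ.Es 71 (orbL R19) 0 := by
    rw [← Γ.Es_congr (m := dl 39 t) (m' := 0) fun r hr => dl_ne _ (hne19 r hr).2]
    exact Γ.glue hR19 hA19.nd hwF fun r hr => hworb r (List.mem_cons_of_mem _ (List.mem_append_left _ hr))
  -- no component at the second fundamental root
  have h39w : w ∈ Γ.Es 71 (orbL [39, 47]) (dl 39 t) := Γ.glue hRB hAB.nd hwF fun r hr =>
    hworb r (List.mem_cons_of_mem _ (by
      rcases List.mem_cons.1 hr with rfl | hr
      · exact List.mem_append_right _ (by simp [S9])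
      · rw [List.mem_singleton] at hr; subst hr; exact List.mem_append_left _ (by simp [R19])))
  have hR20 : w ∈ Γ.Es 71 (orbL R20) 0 := by
    have h46 : w ∈ Γ.Es 71 (orbL [46]) 0 := Γ.mem_Es_of_comp hR46 hA46 hwF fun mc hmc hne r hr => by
      rw [e46, List.mem_singleton] at hr
      subst hr
      by_contra hc0
      change mc 46 ≠ 0 at hc0
      set u := Γ.proj hR46 mc w
      have hu46 : u ∈ Γ.Es 71 (orbL [46]) mc := Γ.proj_Es hR46 hA46 mc hwF
      have hu19 : u ∈ Γ.Es 71 (orbL R19) 0 := Γ.proj_mem hR46 mc fun p hp p' hp' g hg => by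
        rw [Γ.act_comm (fun r hr => ⟨hA19.lt r hr, hA19.zk r hr⟩) (fun r hr => ⟨hA46.lt r hr, hA46.zk r hr⟩)
          (fun r hr x hx => hA.com r ((chkSub_iff.1 s19).2 r hr).1 x (by
            rw [e46, List.mem_singleton] at hx; subst hx
            exact ((chkSub_iff.1 so46).2 46 (self_mem_orb 46)).1)) hg (Γ.cls_rep hR46 hp) hwF,
          hw19 p' hp' g hg, map_smul]
      have huB : u ∈ Γ.Es 71 (orbL [39, 47]) (dl 39 t) := Γ.proj_mem hR46 mc fun p hp => by
        rw [Γ.el_pl hR46 hp]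
        have hmvB : ∀ x ∈ pl [46] p, Ctx.chkMvs 71 [39, 47] x.1 = true := by
          intro x hx; simp [pl] at hx; subst hx; exact mB
        have hh := Γ.move_mem hAB hRB (okB_pl hR46 hp) hmvB h39w
        rw [← Γ.Es_congr (m := shW (bl Γ.φ (pl [46] p)) (dl 39 t)) fun r hr => ?_]
        · exact hh
        rw [show bl Γ.φ (pl [46] p) = [(46, p 46)] by simp [bl, blk, pl, hs46]]
        exact keep_val (List.all_eq_true.1 kB r hr) (fun a _ ha => dl_ne _ (by simpa using ha)) _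
      have hu20 : u ∈ Γ.Es 71 (orbL R20) (dl 46 (mc 46)) := Γ.glue hR hA.nd (Γ.Es_le_Fz _ hu46) fun r hr => by
        rcases hR20rep r hr with rfl | hr'
        · rw [o46, Γ.Es_congr (m' := mc) fun a ha => by rw [List.mem_singleton] at ha; subst ha; exact dl_self _ _,
            ← e46]
          exact Γ.forget hu46
        · have hsub := List.all_eq_true.1 s19o r hr'
          rw [Γ.Es_congr (m' := 0) fun a ha => dl_ne _ (hne19 a ((chkSub_iff.1 hsub).2 a ha).1).1]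
          exact Γ.orbit_of_Es hA19 hu19 hsub
      obtain ⟨m9, hm9, hu9, hz9⟩ := Γ.stable_char (Γ.back_le h70 b46 (hmc.fix (by norm_num) hs46) hc0) hu20 hne c9 st9
      have hzero39 : m9 39 = 0 := hz9 (39, 14, 58) st39
      have := Γ.uniq (R := [39]) (by simp) (by rw [e39]; simp) hm9 (eqv_dl _ hs39 ht) hne
        (Γ.sub hA9 s939 hu9) (Γ.sub hAB sB39 huB) 39 (by rw [e39]; simp)
      rw [hzero39, dl_self] at this
      exact ht0 this.symm
    exact Γ.glue hR hA.nd hwF fun r hr => by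
      rcases hR20rep r hr with rfl | hr'
      · rw [o46, ← e46]; exact Γ.forget h46
      · exact Γ.orbit_of_Es hA19 hw19 (List.all_eq_true.1 s19o r hr')
  exact one_le_of_mem ⟨hw9, hR20⟩ hw0

/-- The three long roots of level one: the root, a word from the fundamental one, and translations. -/
def lowStrata : Fin 3 → Stratum := ![⟨39, [], [], [39], 0⟩, ⟨44, [[2, 4]], [(40, 42)], [39, 40, 43, 44], 2⟩,
  ⟨60, [[0, 5], [2, 4]], [(41, 57), (45, 56)], [39, 40, 41, 43, 44, 45, 58, 59, 60], 4⟩]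

theorem low_ok : ∀ i, (chkTrT 71 S9 (lowStrata i).down (lowStrata i).β (lowStrata i).T &&
    (lowStrata i).down.contains (lowStrata i).β && Nat.beq (perm E (lowStrata i).W.flatten 39) (lowStrata i).β &&
    ((lowStrata i).W.all fun L => gens.contains L) &&
    chkW (lowStrata i).W.flatten 71 71 (orbL S9) (orbL S9) &&
    chkW (lowStrata i).W.flatten 71 71 (orbL R20) (orbL R20) &&
    (orbL S9).all (fun r => !Nat.beq (perm E (lowStrata i).W.flatten r) (lowStrata i).β || Nat.beq r 39) &&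
    (orbL S9).contains (lowStrata i).β && ((lowStrata i).T.map Prod.fst).all (fun r => Nat.blt r 72) &&
    decide (orbL ((lowStrata i).T.map Prod.fst)).Nodup &&
    Nat.beq (orbL ((lowStrata i).T.map Prod.fst)).length (lowStrata i).e &&
    (orbL ((lowStrata i).T.map Prod.fst)).all (fun r => (orbL S9).contains r) &&
    (lowStrata i).T.all fun p => Ctx.chkMvs 71 R20 p.2) = true := by decide +kernel

theorem low_anti : ∀ i j : Fin 3, (lowStrata i).β ∈ (lowStrata j).down → (lowStrata j).β ∈ (lowStrata i).down →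
    i = j := by decide +kernel

/-- The vectors fixed by the roots at distance one. -/
theorem low_bound (hone : ∀ t, Γ.φ t = t → t ≠ 0 → Γ.n11 t = 1)
    (h70 : ∀ t, Γ.φ t = t → t ≠ 0 → Γ.n70 t = 1) :
    (q - 1) * ∑ i : Fin 3, q ^ (lowStrata i).e ≤ finrank ℂ (Γ.Es 71 (orbL R20) 0) := by
  obtain ⟨-, ⟨hA, hR⟩, -⟩ := mids
  have hs := sieg_ok
  simp only [Bool.and_eq_true] at hs
  obtain ⟨hA9, hR9⟩ := chkA (show chkAb 71 S9 = true from by decide +kernel)
  clear hs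
  have hf : ∀ i, _ := fun i => by
    have h := low_ok i
    simp only [Bool.and_eq_true, natBeq_eq, decide_eq_true_eq, List.all_eq_true, List.contains_iff_mem,
      Bool.or_eq_true, Bool.not_eq_true', decide_eq_false_iff_not, Nat.blt_eq] at h
    exact h
  choose m hm hms hmβ hmg hle using
    fun x : Σ i : Fin 3, {t : Γ.Fix // t.1 ≠ 0} × FP Γ.φ ((lowStrata i).T.map Prod.fst) =>
      Γ.translate_dl hA9 hR9 (hf x.1).1.1.1.1.1.1.1.1.1.1.1.1 (hf x.1).1.1.1.1.1.1.1.1.1.1.1.2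
        (Γ.Es 71 (orbL R20) 0) (fun p hp => Γ.inv_zero hA hR ((hf x.1).2 p hp)) x.2.1.1.2 x.2.1.2 (FP.eqv x.2.2)
  refine le_trans ?_ (Γ.sep hR9 hA9.nd m hm
    (fun x => Γ.Es 71 (orbL S9) (m x) ⊓ Γ.Es 71 (orbL R20) 0) (Γ.Es 71 (orbL R20) 0) (fun _ => le_rfl) ?_)
  · have h1 : ∀ x : Σ i : Fin 3, {t : Γ.Fix // t.1 ≠ 0} × FP Γ.φ ((lowStrata i).T.map Prod.fst),
        1 ≤ finrank ℂ ↥(Γ.Es 71 (orbL S9) (m x) ⊓ Γ.Es 71 (orbL R20) 0) := fun x => by
      refine le_trans ?_ (hle x)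
      obtain ⟨⟨⟨⟨⟨⟨⟨⟨⟨⟨⟨⟨-, -⟩, hperm⟩, hW⟩, hchk⟩, hchk'⟩, huni⟩, -⟩, -⟩, -⟩, -⟩, -⟩, -⟩ := hf x.1
      set L := (lowStrata x.1).W.flatten
      set c : K := (weta E L 39 : K) with hc
      have hcc : c * c = 1 := by rcases weta_cases (C := E) L 39 with w | w <;> simp [hc, w]
      set t := x.2.1.1.1
      have hs : Γ.φ (c * t) = c * t := by rw [map_mul, hc, map_intCast, x.2.1.1.2]
      have hs0 : c * t ≠ 0 := mul_ne_zero (fun e => by rw [e] at hcc; simp at hcc) x.2.1.2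
      refine le_trans (Γ.siegel39 hone h70 hs hs0) (Γ.finrank_le_of_map (Γ.nw hW) fun v hv => ⟨?_, ?_⟩)
      · refine Γ.word_mem_Es hW hA9 hchk (fun r hr hr' => ?_) hv.1
        by_cases e : r = 39
        · subst e; rw [hperm, dl_self, dl_self]; show t = c * (c * t); rw [← mul_assoc, hcc, one_mul]
        · rw [dl_ne _ e, mul_zero, dl_ne]
          exact (huni r hr).resolve_right e
      · exact Γ.word_mem_Es hW hA hchk' (fun r _ _ => by simp) hv.2
    refine le_trans ?_ (Finset.sum_le_sum fun x _ => h1 x)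
    rw [← Finset.card_eq_sum_ones, Finset.card_univ, Fintype.card_sigma, Finset.mul_sum]
    refine le_of_eq (Finset.sum_congr rfl fun i _ => ?_)
    rw [Fintype.card_prod, Γ.card_Fix_ne,
      Γ.card_T (hf i).1.1.1.1.2 (hf i).1.1.1.2 _ (hf i).1.1.2]
  · have hβ : ∀ i, (lowStrata i).β ∈ orbL S9 := fun i => (hf i).1.1.1.1.1.2
    have key : ∀ x y, (∀ r ∈ orbL S9, m x r = m y r) → (lowStrata x.1).β ∈ (lowStrata y.1).down := fun x y h => by
      by_contra hn
      have h1 := h _ (hβ x.1)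
      rw [hmβ, hms y _ (hβ x.1) hn] at h1
      exact x.2.1.2 h1
    rintro ⟨i, a⟩ ⟨j, b⟩ h
    obtain rfl : i = j := low_anti i j (key ⟨i, a⟩ ⟨j, b⟩ h) (key ⟨j, b⟩ ⟨i, a⟩ fun r hr => (h r hr).symm)
    refine Sigma.ext rfl (heq_of_eq (Prod.ext (Subtype.ext (Subtype.ext ?_)) (FP.ext_eq fun r hr => ?_)))
    · have := h _ (hβ i)
      rwa [hmβ, hmβ] at this
    · rw [← hmg ⟨i, a⟩ r hr, ← hmg ⟨i, b⟩ r hr]; exact h r ((hf i).1.2 r hr)

theorem sum_eq {q : ℕ} (hq : 2 ≤ q) : target q ≤ (q - 1) * q ^ 10 + ((q - 1) * ∑ i : Fin 8, q ^ (strata i).e +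
    (q - 1) * ∑ i : Fin 3, q ^ (lowStrata i).e) + 2 := by
  simp only [Fin.sum_univ_eight, Fin.sum_univ_three, strata, lowStrata]
  simp only [Matrix.cons_val, pow_zero]
  unfold target
  obtain ⟨r, rfl⟩ : ∃ r, q = r + 2 := ⟨q - 2, by omega⟩
  rw [show r + 2 - 1 = r + 1 by omega]
  have h3 := sub_le_target (r + 2)
  zify [h3]
  ring_nf
  exact le_refl _

/-- The degree is at least the bound or two less. -/
theorem degree_gap {v : V} {u : K} (hu : Γ.φ u = u)
    (hv : Γ.π ⟨Γ.X.x 71 u, (Γ.H.z_mem_GT Γ.X (by norm_num) orb_facts.2.2.2.2.1).2 hu⟩ v ≠ v) :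
    target q ≤ finrank ℂ V + 2 := by
  rcases Γ.top_dichotomy hu hv with h | hone
  · omega
  rcases Γ.mid_dichotomy hone with h | h70
  · omega
  have h1 := Γ.split_top hone
  have h2 := Γ.mid_bound hone h70
  have h3 := Γ.low_bound hone h70
  have h4 := sum_eq Γ.H.hq.two_le
  omega

end Ctx

end Cfsg.Agent.Lib.TE6Deg41
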