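import Cfsg.Agent.Lib.TE6Deg41.Transl
import Cfsg.Agent.Lib.TE6Deg41.Arith

/-!
The characters of the abelian group at the highest root: either the bound holds or each occurs once.
-/

set_option autoImplicit false
set_option linter.unusedSectionVars false
set_option maxRecDepth 8000

namespace Cfsg.Agent.Lib.TE6Deg41

open Cfsg.Lie Cfsg.Agent.Lib.Chev Cfsg.Agent.Lib.E6Deg41 Module
open Cfsg.Agent.Lib.E6Deg41.Setup (shM shM_some shM_keep)

/-- The abelian list at the highest root. -/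
def R11 : List ℕ := [71, 70, 69, 65, 63, 54, 55, 66]
/-- The same without `63`. -/
def R10 : List ℕ := [71, 70, 69, 65, 54, 55, 66]
/-- The translations of `R11`. -/
def T11 : List (ℕ × ℕ) := [(70, 46), (69, 47), (65, 51), (63, 53), (54, 62), (55, 61), (66, 50)]
/-- The translations of `R10`. -/
def T10 : List (ℕ × ℕ) := [(70, 46), (69, 47), (65, 51), (54, 62), (55, 61), (66, 50)]

theorem top_ok : (chkAb 72 R11 && chkAb 72 R10 && chkAb 72 [71] && chkAb 72 [70] &&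
    chkTrT 72 R11 (orbL R11) 71 T11 && chkTrT 72 R10 (orbL R10) 71 T10 &&
    chkSub (orbL R11) (orbL R10) && chkSub (orbL R10) (orbL [71]) && chkSub (orbL R11) (orbL [71]) &&
    Ctx.chkMvs 72 R10 46 && Ctx.chkMvs 72 R10 25 &&
    chkW [1] 72 72 (orbL R11) [71] && chkW [1] 72 72 (orbL R11) [70]) = true := by decide +kernel

/-- The rows of the two moves fixing the multiplicity. -/
theorem pr_ok : ((orbL R10).all fun r =>
    (if r = 70 then sm E 46 r == some 71 else sm E 46 r == none) &&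
    (if r = 71 then sm E 25 r == some 70 else sm E 25 r == none)) = true := by decide +kernel

theorem orb_facts : orbL [71] = [71] ∧ orb 71 = [71] ∧ orbL [70] = [70] ∧ orb 70 = [70] ∧ sg 71 = 71 ∧ sg 70 = 70 ∧
    sg 46 = 46 ∧ sg 25 = 25 ∧ sg 63 = 63 := by decide +kernel

theorem lt_of_all {R : List ℕ} (h : (R.all fun r => Nat.blt r 72) = true) : ∀ r ∈ R, r < 72 := fun r hr => by
  simpa using List.all_eq_true.1 h r hr

variable {K : Type*} [Field K]

/-- Values at the two highest roots. -/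
def pr (t d : K) (r : ℕ) : K := if r = 71 then t else if r = 70 then d else 0

theorem shM_pr46 (s t d : K) {r : ℕ} (hr : r ∈ orbL R10) :
    shM E 46 s (pr t d) r = pr t (d - (Nc E 46 70 : K) * s * t) r := by
  have h := List.all_eq_true.1 pr_ok r hr
  simp only [Bool.and_eq_true] at h
  by_cases e : r = 70
  · subst e
    rw [if_pos rfl] at h
    rw [shM_some (by simpa using h.1)]
    simp [pr]
  · rw [if_neg e] at h
    rw [shM_keep (fun a ha => by rw [show sm E 46 r = none by simpa using h.1] at ha; cases ha)]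
    simp [pr, e]

theorem shM_pr25 (s t d : K) {r : ℕ} (hr : r ∈ orbL R10) :
    shM E 25 s (pr t d) r = pr (t - (Nc E 25 71 : K) * s * d) d r := by
  have h := List.all_eq_true.1 pr_ok r hr
  simp only [Bool.and_eq_true] at h
  by_cases e : r = 71
  · subst e
    rw [if_pos rfl] at h
    rw [shM_some (by simpa using h.2)]
    simp [pr]
  · rw [if_neg e] at h
    rw [shM_keep (fun a ha => by rw [show sm E 25 r = none by simpa using h.2] at ha; cases ha)]
    simp [pr, e]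

theorem dl_eq_pr (t : K) : dl 71 t = pr t 0 := funext fun r => by
  unfold dl pr; split_ifs <;> rfl

variable [Fintype K] {q : ℕ} {V : Type*} [AddCommGroup V] [Module ℂ V] (Γ : Ctx K q V)

namespace Ctx

/-- The fixed field as a type. -/
abbrev Fix : Type _ := {t : K // Γ.φ t = t}

noncomputable instance : Fintype Γ.Fix := Fintype.ofFinite _

theorem card_Fix : Fintype.card Γ.Fix = q := by rw [Fintype.card_eq_nat_card]; exact Γ.H.card_fix

theorem card_Fix_ne [DecidableEq K] : Fintype.card {t : Γ.Fix // t.1 ≠ 0} = q - 1 := by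
  classical
  rw [Fintype.card_subtype_compl, Γ.card_Fix]
  congr 1
  exact Fintype.card_eq_one_iff.2 ⟨⟨⟨0, map_zero _⟩, rfl⟩, fun y => Subtype.ext (Subtype.ext y.2)⟩

/-- Either the vector is an eigenvector on a sublist or some component differs there. -/
theorem mem_of_comp_sub {z : ℕ} {R : List ℕ} (hR : ∀ r ∈ R, r < 72) (hA : Ab z (orbL R)) {B : List ℕ}
    (hB : chkSub (orbL R) B = true) {v : V} (hv : v ∈ Γ.Fz z) {m₀ : ℕ → K}
    (h : ∀ m, Eqv Γ.φ m → Γ.proj hR m v ≠ 0 → ∀ r ∈ B, m r = m₀ r) : v ∈ Γ.Es z B m₀ := by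
  rw [← Γ.sum_proj hR hA.nd hv]
  refine Submodule.sum_mem _ fun m _ => ?_
  by_cases h0 : Γ.proj hR (ext (m : Fin 72 → K)) v = 0
  · rw [h0]; exact Submodule.zero_mem _
  · rw [← Γ.Es_congr (h _ (FP.eqv m) h0)]
    exact Γ.sub hA hB (Γ.proj_Es hR hA _ hv)

variable [FiniteDimensional ℂ V]

theorem one_le_of_mem {W : Submodule ℂ V} {v : V} (h : v ∈ W) (h0 : v ≠ 0) : 1 ≤ finrank ℂ W :=
  Module.finrank_pos_iff_exists_ne_zero.2 ⟨⟨v, h⟩, fun e => h0 (congrArg Subtype.val e)⟩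

theorem exists_of_one_le {W : Submodule ℂ V} (h : 1 ≤ finrank ℂ W) : ∃ v ∈ W, v ≠ 0 := by
  obtain ⟨⟨v, hv⟩, h0⟩ := Module.finrank_pos_iff_exists_ne_zero.1 h
  exact ⟨v, hv, fun e => h0 (Subtype.ext e)⟩

theorem fr_top (W : Submodule ℂ V) : finrank ℂ ↥(W ⊓ ⊤) = finrank ℂ W := by rw [inf_top_eq]

/-- Translating a character with a given top value to the one supported at the top. -/
theorem to_dl {z : ℕ} {R : List ℕ} {β : ℕ} {T : List (ℕ × ℕ)} (hA : Ab z (orbL R)) (hR : ∀ r ∈ R, r < 72)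
    (hT : chkTrT z R (orbL R) β T = true) (hcov : ∀ r ∈ orbL R, r ≠ β → r ∈ orbL (T.map Prod.fst))
    {m : ℕ → K} (hm : Eqv Γ.φ m) (hne : m β ≠ 0) :
    finrank ℂ (Γ.Es z (orbL R) m) ≤ finrank ℂ (Γ.Es z (orbL R) (dl β (m β))) := by
  obtain ⟨m', -, -, h2, h3, h4⟩ := Γ.translate hA hR hT ⊤ (fun p _ => Γ.inv_top p.2) hm (eqv_zero Γ.φ)
    (fun a ha hn => absurd ha hn) hne
  rw [inf_top_eq, inf_top_eq] at h4
  refine h4.trans (le_of_eq ?_)
  rw [Γ.Es_congr (m' := dl β (m β)) fun r hr => ?_]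
  by_cases e : r = β
  · subst e; rw [h2, dl_self]
  · rw [h3 r (hcov r hr e), dl_ne _ e]; rfl

theorem cov11 : ∀ r ∈ orbL R11, r ≠ 71 → r ∈ orbL (T11.map Prod.fst) := by decide +kernel

theorem cov10 : ∀ r ∈ orbL R10, r ≠ 71 → r ∈ orbL (T10.map Prod.fst) := by decide +kernel

/-- The multiplicities on the smaller list. -/
noncomputable def n10 (t : K) : ℕ := finrank ℂ (Γ.Es 72 (orbL R10) (dl 71 t))

/-- The multiplicities on the larger list. -/
noncomputable def n11 (t : K) : ℕ := finrank ℂ (Γ.Es 72 (orbL R11) (dl 71 t))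

theorem chkA {z : ℕ} {R : List ℕ} (h : chkAb z R = true) : Ab z (orbL R) ∧ ∀ r ∈ R, r < 72 := by
  refine ⟨ab_of_chk h, ?_⟩
  simp only [chkAb, Bool.and_eq_true, List.all_eq_true, Nat.blt_eq] at h
  exact h.1.2

theorem tops : (Ab 72 (orbL R11) ∧ (∀ r ∈ R11, r < 72)) ∧ (Ab 72 (orbL R10) ∧ (∀ r ∈ R10, r < 72)) := by
  have h := top_ok
  simp only [Bool.and_eq_true] at h
  exact ⟨chkA h.1.1.1.1.1.1.1.1.1.1.1.1, chkA h.1.1.1.1.1.1.1.1.1.1.1.2⟩

theorem const_le {t t' : K} (ht : Γ.φ t = t) (ht' : Γ.φ t' = t') (ht0 : t ≠ 0) (ht0' : t' ≠ 0) :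
    Γ.n10 t ≤ Γ.n10 t' := by
  obtain ⟨-, hA, hR⟩ := tops
  have h := top_ok
  simp only [Bool.and_eq_true] at h
  have hm46 := h.1.1.1.2
  have hm25 := h.1.1.2
  obtain ⟨-, -, -, -, hs71, hs70, hs46, hs25, -⟩ := orb_facts
  have hn46 : (Nc E 46 70 : K) ≠ 0 :=
    (Γ.X.Nc_unit (a := 71) (show 46 < chevE6.nroots by decide) (show 70 < chevE6.nroots by decide)
      (by decide +kernel) (by decide +kernel)).2
  have hn25 : (Nc E 25 71 : K) ≠ 0 :=
    (Γ.X.Nc_unit (a := 70) (show 25 < chevE6.nroots by decide) (show 71 < chevE6.nroots by decide)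
      (by decide +kernel) (by decide +kernel)).2
  have step : ∀ (e : ℕ) (s : K) {m m' : ℕ → K}, e < 72 → sg e = e → Γ.φ s = s →
      Ctx.chkMvs 72 R10 e = true → (∀ r ∈ orbL R10, shM E e s m r = m' r) →
      finrank ℂ (Γ.Es 72 (orbL R10) m) ≤ finrank ℂ (Γ.Es 72 (orbL R10) m') := by
    intro e s m m' he hse hs hmv hh
    refine Γ.move_le hA hR (l := [(e, s)]) (fun p hp => ?_) (fun p hp => ?_) fun r hr => ?_
    · rw [List.mem_singleton] at hp; subst hp; exact ⟨he, fun _ => hs⟩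
    · rw [List.mem_singleton] at hp; subst hp; exact hmv
    · rw [show bl Γ.φ [(e, s)] = [(e, s)] by simp [bl, blk, hse]]
      exact hh r hr
  unfold n10
  rw [dl_eq_pr, dl_eq_pr]
  refine (step 46 (-(1 / ((Nc E 46 70 : K) * t))) (m' := pr t 1) (by norm_num) hs46 ?_ hm46 fun r hr => ?_).trans
    ((step 25 ((t - t') / (Nc E 25 71 : K)) (m' := pr t' 1) (by norm_num) hs25 ?_ hm25 fun r hr => ?_).trans ?_)
  · simp [ht]
  · rw [shM_pr46 _ _ _ hr]; congr 1; field_simp; ring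
  · simp [ht, ht']
  · rw [shM_pr25 _ _ _ hr]; congr 1; field_simp; ring
  · refine step 46 (1 / ((Nc E 46 70 : K) * t')) (by norm_num) hs46 (by simp [ht']) hm46 fun r hr => ?_
    rw [shM_pr46 _ _ _ hr]; congr 1; field_simp; ring

/-- A vector moved by the highest root gives a character. -/
theorem n10_exists {v : V} {u : K} (hu : Γ.φ u = u) (hv : Γ.π ⟨Γ.X.x 71 u, (Γ.H.z_mem_GT Γ.X (by norm_num) orb_facts.2.2.2.2.1).2 hu⟩ v ≠ v) :
    ∃ t, Γ.φ t = t ∧ t ≠ 0 ∧ 1 ≤ Γ.n10 t := by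
  classical
  obtain ⟨-, hA, hR⟩ := tops
  have h := top_ok
  simp only [Bool.and_eq_true] at h
  obtain ⟨e1, -, -, -, hs71, -⟩ := orb_facts
  have hv0 : v ∈ Γ.Fz 72 := Γ.Fz_out le_rfl v
  obtain ⟨m, hm, hne, h71⟩ : ∃ m, Eqv Γ.φ m ∧ Γ.proj hR m v ≠ 0 ∧ m 71 ≠ 0 := by
    by_contra hcon
    push Not at hcon
    have := Γ.mem_of_comp_sub hR hA h.1.1.1.1.1.2 hv0 (m₀ := 0) fun m hm hne r hr => by
      rw [e1, List.mem_singleton] at hr; subst hr; exact hcon m hm hne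
    refine hv ?_
    rw [this _ (eqv_dl Γ.φ hs71 hu) ⟨_, _⟩ ⟨0, ?_⟩]
    · simp [pair]
    · show Γ.X.x 71 u = _
      simp [e1, pl, uEl, dl_self, Γ.X.x_zero]
  refine ⟨m 71, hm.fix (by norm_num) hs71, h71, le_trans ?_ (Γ.to_dl hA hR h.1.1.1.1.1.1.1.2 cov10 hm h71)⟩
  exact one_le_of_mem (Γ.proj_Es hR hA m hv0) hne

/-- The characters of the highest root. -/
theorem sum_top : ∑ t : Γ.Fix, finrank ℂ (Γ.Es 72 (orbL [71]) (dl 71 t.1)) ≤ finrank ℂ V := by
  obtain ⟨e1, -, -, -, hs71, -⟩ := orb_facts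
  have hR : ∀ r ∈ [71], r < 72 := by simp
  have hnd : (orbL [71]).Nodup := by rw [e1]; simp
  have hh := Γ.sep (z := 72) hR hnd (fun t : Γ.Fix => dl 71 t.1)
    (fun t => eqv_dl _ hs71 t.2) (fun t => Γ.Es 72 (orbL [71]) (dl 71 t.1)) ⊤ (fun t => le_inf le_rfl le_top)
  refine (hh fun t t' h => Subtype.ext ?_).trans (finrank_top ℂ V).le
  have := h 71 (by rw [e1]; simp)
  simpa [dl_self] using this

theorem card_T {T : List (ℕ × ℕ)} (hR : ∀ r ∈ T.map Prod.fst, r < 72) (hnd : (orbL (T.map Prod.fst)).Nodup)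
    (n : ℕ) (hn : (orbL (T.map Prod.fst)).length = n) : Fintype.card (FP Γ.φ (T.map Prod.fst)) = q ^ n := by
  rw [Fintype.card_eq_nat_card, Γ.H.card_FP hR hnd, hn]

theorem T_facts : ((T11.map Prod.fst).all (fun r => Nat.blt r 72) && decide (orbL (T11.map Prod.fst)).Nodup &&
    Nat.beq (orbL (T11.map Prod.fst)).length 10 &&
    (T10.map Prod.fst).all (fun r => Nat.blt r 72) && decide (orbL (T10.map Prod.fst)).Nodup &&
    Nat.beq (orbL (T10.map Prod.fst)).length 9 &&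
    (orbL (T11.map Prod.fst)).all (fun r => (orbL R11).contains r) &&
    (orbL (T10.map Prod.fst)).all (fun r => (orbL R10).contains r) &&
    (orbL R10).all (fun r => (orbL R11).contains r && !Nat.beq r 63) && (orbL R11).contains 63 &&
    (orbL (T11.map Prod.fst)).contains 63) = true := by decide +kernel

/-- Translates inside one eigenspace of the highest root. -/
theorem fam_le {R : List ℕ} {T : List (ℕ × ℕ)} (hA : Ab 72 (orbL R)) (hR : ∀ r ∈ R, r < 72)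
    (hT : chkTrT 72 R (orbL R) 71 T = true) (h71 : chkSub (orbL R) (orbL [71]) = true)
    (hTR : ∀ r ∈ orbL (T.map Prod.fst), r ∈ orbL R) {n : ℕ} (hn : Fintype.card (FP Γ.φ (T.map Prod.fst)) = q ^ n)
    {t : K} (ht : Γ.φ t = t) (ht0 : t ≠ 0) :
    q ^ n * finrank ℂ (Γ.Es 72 (orbL R) (dl 71 t)) ≤ finrank ℂ (Γ.Es 72 (orbL [71]) (dl 71 t)) := by
  have h71R : 71 ∈ orbL R := ((chkSub_iff.1 h71).2 71 (mem_orbL_self List.mem_cons_self)).1
  choose m hm hms hmβ hmg hle using fun g : FP Γ.φ (T.map Prod.fst) =>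
    Γ.translate_dl hA hR hT h71R ⊤ (fun p _ => Γ.inv_top p.2) ht ht0 (FP.eqv g)
  simp only [fr_top] at hle
  refine le_trans ?_ (Γ.sep hR hA.nd m hm (fun g => Γ.Es 72 (orbL R) (m g))
    (Γ.Es 72 (orbL [71]) (dl 71 t)) (fun g => le_inf le_rfl fun v hv => ?_) ?_)
  · refine le_trans ?_ (Finset.sum_le_sum fun g _ => hle g)
    simp [hn]
  · rw [← Γ.Es_congr (m := m g) fun r hr => ?_]
    · exact Γ.sub hA h71 hv
    · rw [orb_facts.1, List.mem_singleton] at hr; subst hr; rw [hmβ, dl_self]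
  · intro g g' h
    refine FP.ext_eq fun r hr => ?_
    rw [← hmg g r hr, ← hmg g' r hr]
    exact h r (hTR r hr)

/-- Each eigenspace of the highest root contains `q¹⁰` translates. -/
theorem top_eigen {t : K} (ht : Γ.φ t = t) (ht0 : t ≠ 0) :
    q ^ 10 * Γ.n11 t ≤ finrank ℂ (Γ.Es 72 (orbL [71]) (dl 71 t)) := by
  obtain ⟨⟨hA, hR⟩, -⟩ := tops
  have h := top_ok
  simp only [Bool.and_eq_true] at h
  have hf := T_facts
  simp only [Bool.and_eq_true, natBeq_eq, decide_eq_true_eq, List.all_eq_true, Nat.blt_eq,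
    List.contains_iff_mem] at hf
  obtain ⟨⟨⟨⟨⟨⟨⟨⟨⟨⟨f1, f2⟩, f3⟩, -⟩, -⟩, -⟩, f7⟩, -⟩, -⟩, -⟩, -⟩ := hf
  exact Γ.fam_le hA hR h.1.1.1.1.1.1.1.1.2 h.1.1.1.1.2 f7 (Γ.card_T f1 f2 10 f3) ht ht0

theorem target_bounds (hq : 2 ≤ q) : target q ≤ q ^ 11 ∧ target q ≤ (q - 1) * (2 * q ^ 10) := by
  have h1 : target q ≤ q ^ 11 := by
    have h3 := sub_le_target q
    unfold target
    obtain ⟨d, hd⟩ := Nat.le.dest h3
    rw [show q ^ 6 - q ^ 3 = d by omega]
    have h5 : 1 + q ^ 4 ≤ q ^ 4 + q ^ 4 := Nat.add_le_add_right (Nat.one_le_pow _ _ (by omega)) _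
    have h7 : 2 * q ^ 7 ≤ q ^ 8 := by rw [pow_succ' q 7]; exact Nat.mul_le_mul_right _ hq
    have h6 : q ^ 5 + q ≤ q ^ 7 := by
      have a : q ≤ q ^ 6 := Nat.le_self_pow (by norm_num) q
      have b : q ^ 5 ≤ q ^ 6 := Nat.pow_le_pow_right (by omega) (by norm_num)
      have c : 2 * q ^ 6 ≤ q ^ 7 := by rw [pow_succ' q 6]; exact Nat.mul_le_mul_right _ hq
      omega
    have e : q * (d + 1) * (q ^ 4 + 1) + (q ^ 8 + q ^ 4) = q ^ 11 + q ^ 7 + q ^ 5 + q := by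
      have hd' : q ^ 3 + d = q ^ 6 := hd
      calc q * (d + 1) * (q ^ 4 + 1) + (q ^ 8 + q ^ 4)
          = q * (q ^ 3 + d + 1) * (q ^ 4 + 1) := by ring
        _ = q * (q ^ 6 + 1) * (q ^ 4 + 1) := by rw [hd']
        _ = _ := by ring
    omega
  refine ⟨h1, h1.trans ?_⟩
  calc q ^ 11 = q * q ^ 10 := by ring
    _ ≤ (2 * (q - 1)) * q ^ 10 := Nat.mul_le_mul_right _ (by omega)
    _ = _ := by ring

/-- Either the bound holds or each character of the abelian group occurs once. -/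
theorem top_dichotomy {v : V} {u : K} (hu : Γ.φ u = u)
    (hv : Γ.π ⟨Γ.X.x 71 u, (Γ.H.z_mem_GT Γ.X (by norm_num) orb_facts.2.2.2.2.1).2 hu⟩ v ≠ v) :
    target q ≤ finrank ℂ V ∨ ∀ t, Γ.φ t = t → t ≠ 0 → Γ.n11 t = 1 := by
  classical
  obtain ⟨⟨hA, hR⟩, hA', hR'⟩ := tops
  have hq := Γ.H.hq.two_le
  have h := top_ok
  simp only [Bool.and_eq_true] at h
  have hf := T_facts
  simp only [Bool.and_eq_true, natBeq_eq, decide_eq_true_eq, List.all_eq_true, Nat.blt_eq,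
    List.contains_iff_mem, Bool.not_eq_true', decide_eq_false_iff_not] at hf
  obtain ⟨⟨⟨⟨⟨⟨⟨⟨⟨⟨-, -⟩, -⟩, f4⟩, f5⟩, f6⟩, f7⟩, f8⟩, f9⟩, f10⟩, f11⟩ := hf
  obtain ⟨e1, -, -, -, hs71, -, -, -, hs63⟩ := orb_facts
  obtain ⟨t₀, ht₀, ht₀', hn₀⟩ := Γ.n10_exists hu hv
  have hconst : ∀ t, Γ.φ t = t → t ≠ 0 → Γ.n10 t = Γ.n10 t₀ := fun t ht ht' =>
    le_antisymm (Γ.const_le ht ht₀ ht' ht₀') (Γ.const_le ht₀ ht ht₀' ht')
  by_cases hbig : 2 * q ≤ Γ.n10 t₀
  · left
    refine le_trans ?_ Γ.sum_top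
    refine le_trans ((target_bounds hq).2.trans ?_) (Finset.sum_le_sum_of_subset (f := fun t : Γ.Fix =>
      finrank ℂ (Γ.Es 72 (orbL [71]) (dl 71 t.1))) (Finset.subset_univ (Finset.univ.filter fun t : Γ.Fix => t.1 ≠ 0)))
    refine le_trans ?_ (Finset.card_nsmul_le_sum _ _ (2 * q ^ 10) fun t ht => ?_)
    · rw [← Fintype.card_subtype, Γ.card_Fix_ne, smul_eq_mul]
    · have ht' := (Finset.mem_filter.1 ht).2
      refine le_trans ?_ (Γ.fam_le hA' hR' h.1.1.1.1.1.1.1.2 h.1.1.1.1.1.2 f8 (Γ.card_T f4 f5 9 f6) t.2 ht')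
      show 2 * q ^ 10 ≤ q ^ 9 * Γ.n10 t.1
      rw [hconst t.1 t.2 ht']
      calc 2 * q ^ 10 = q ^ 9 * (2 * q) := by ring
        _ ≤ _ := Nat.mul_le_mul_left _ hbig
  right
  intro t ht ht'
  refine le_antisymm ?_ ?_
  · have hq' : q * Γ.n11 t ≤ Γ.n10 t := by
      choose m hm hms hmβ hmg hle using fun c : Γ.Fix => Γ.translate_dl hA hR h.1.1.1.1.1.1.1.1.2
        (mem_orbL_self List.mem_cons_self) ⊤ (fun p _ => Γ.inv_top p.2) ht ht' (eqv_dl Γ.φ hs63 c.2)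
      simp only [fr_top] at hle
      refine le_trans ?_ (Γ.sep hR hA.nd m hm (fun c => Γ.Es 72 (orbL R11) (m c))
        (Γ.Es 72 (orbL R10) (dl 71 t)) (fun c => le_inf le_rfl fun w hw => ?_) ?_)
      · refine le_trans ?_ (Finset.sum_le_sum fun c _ => hle c)
        simp [Γ.card_Fix, n11]
      · rw [← Γ.Es_congr (m := m c) fun r hr => ?_]
        · exact Γ.sub hA h.1.1.1.1.1.1.2 hw
        · by_cases e : r = 71
          · subst e; rw [hmβ, dl_self]
          · rw [hmg c r (cov11 r (f9 r hr).1 e), dl_ne _ e, dl_ne _ (f9 r hr).2]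
      · intro c c' hh
        have := hh 63 f10
        rw [hmg c 63 f11, hmg c' 63 f11, dl_self, dl_self] at this
        exact Subtype.ext this
    rw [hconst t ht ht'] at hq'
    by_contra hcon
    push Not at hcon
    exact hbig (le_trans (by rw [mul_comm]; exact Nat.mul_le_mul_left q hcon) hq')
  · obtain ⟨w, hw, hw0⟩ := exists_of_one_le (hn₀.trans (hconst t ht ht').ge)
    obtain ⟨m, hm, hne, hmem⟩ := Γ.exists_comp hR hA (Γ.Fz_out le_rfl w) hw0
    have hmem' : Γ.proj hR m w ∈ Γ.Es 72 (orbL R10) (dl 71 t) := by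
      refine Γ.proj_mem hR m fun p hp p' hp' g hg => ?_
      rw [Γ.act_comm (z := 72) (fun r hr => ⟨hA'.lt r hr, hA'.zk r hr⟩) (fun r hr => ⟨hA.lt r hr, hA.zk r hr⟩)
        (fun r hr s hs => hA.com r ((chkSub_iff.1 h.1.1.1.1.1.1.2).2 r hr).1 s hs) hg (Γ.cls_rep hR hp)
        (Γ.Fz_out le_rfl w), hw p' hp' g hg, map_smul]
    have h71 : m 71 = t := by
      have := Γ.uniq (R := R10) hR' hA'.nd hm (eqv_dl Γ.φ hs71 ht) hne (Γ.sub hA h.1.1.1.1.1.1.2 hmem) hmem'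
        71 (mem_orbL_self List.mem_cons_self)
      rwa [dl_self] at this
    have := (one_le_of_mem hmem hne).trans (Γ.to_dl hA hR h.1.1.1.1.1.1.1.1.2 cov11 hm (h71 ▸ ht'))
    rwa [h71] at this

end Ctx

end Cfsg.Agent.Lib.TE6Deg41
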