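import Cfsg.Agent.Lib.TE6Deg41.Ops

/-!
Triangular translations: moves which adjust the coordinates next to a supported root one orbit at a time.
-/

set_option autoImplicit false
set_option linter.unusedSectionVars false

namespace Cfsg.Agent.Lib.TE6Deg41

open Cfsg.Lie Cfsg.Agent.Lib.Chev Cfsg.Agent.Lib.E6Deg41 Module
open Cfsg.Agent.Lib.E6Deg41.Setup (shM shM_some shM_keep)

/-- The value at `x` is kept by `x_e` on functions supported on `Dn`. -/
def keepz (A Dn : List ℕ) (e x : ℕ) : Bool :=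
  match sm E e x with
  | none => true
  | some a => A.contains a && !Dn.contains a

/-- The tracked roots. -/
def trk (β : ℕ) (T : List (ℕ × ℕ)) : List ℕ := β :: orbL (T.map Prod.fst)

/-- The checks of a translation by `(γ, e)`. -/
def chkStep (z : ℕ) (R Dn : List ℕ) (β : ℕ) (T : List (ℕ × ℕ)) (p : ℕ × ℕ) : Bool :=
  let γ := p.1
  let e := p.2
  Ctx.chkMvs z R e && (orbL R).contains γ && (Nat.beq (sg γ) γ == Nat.beq (sg e) e) &&
    decide (sm E e γ = some β) && !Nat.beq γ β &&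
    (orb e).all fun a =>
      ((orbL R).all fun x => Dn.contains x || keepz (orbL R) Dn a x) &&
      (trk β T).all fun x => (orbL R).contains x &&
        ((Nat.beq x γ && Nat.beq a e) || (Nat.beq x (sg γ) && Nat.beq a (sg e)) || keepz (orbL R) Dn a x)

/-- The checks of a list of translations. -/
def chkTrT (z : ℕ) (R Dn : List ℕ) (β : ℕ) (T : List (ℕ × ℕ)) : Bool :=
  Nat.beq (sg β) β && Nat.blt β 72 && decide (trk β T).Nodup && T.all fun p => chkStep z R Dn β T p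

theorem keepz_spec {A Dn : List ℕ} {e x : ℕ} (h : keepz A Dn e x = true) {a : ℕ} (ha : sm E e x = some a) :
    a ∈ A ∧ a ∉ Dn := by
  rw [keepz, ha] at h
  simpa using h

variable {K : Type*} [Field K]

theorem keep_val {A Dn : List ℕ} {e x : ℕ} (h : keepz A Dn e x = true) {f : ℕ → K}
    (hf : ∀ a ∈ A, a ∉ Dn → f a = 0) (t : K) : shM E e t f x = f x :=
  shM_keep (fun _ ha => hf _ (keepz_spec h ha).1 (keepz_spec h ha).2) t

variable [Fintype K] {q : ℕ} {V : Type*} [AddCommGroup V] [Module ℂ V] (Γ : Ctx K q V)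

namespace Ctx

/-- The subspace is kept by the blocks at `e`. -/
def Inv (Y : Submodule ℂ V) (e : ℕ) : Prop :=
  ∀ (s : K) (hl : ∀ p ∈ [(e, s)], okB Γ.φ p), ∀ v ∈ Y, Γ.π (Γ.el hl) v ∈ Y

/-- One translation. -/
theorem step [FiniteDimensional ℂ V] {z : ℕ} {R Dn : List ℕ} {β : ℕ} {T : List (ℕ × ℕ)} (hA : Ab z (orbL R))
    (hR : ∀ r ∈ R, r < 72) (hβ : sg β = β) (hβ' : β < 72) {γ e : ℕ} (h : chkStep z R Dn β T (γ, e) = true)
    (hγT : γ ∈ trk β T) (Y : Submodule ℂ V) (hY : Γ.Inv Y e) {m g : ℕ → K} (hm : Eqv Γ.φ m) (hg : Eqv Γ.φ g)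
    (hs : ∀ a ∈ orbL R, a ∉ Dn → m a = 0) (hne : m β ≠ 0) :
    ∃ m', Eqv Γ.φ m' ∧ (∀ a ∈ orbL R, a ∉ Dn → m' a = 0) ∧ m' γ = g γ ∧
      (∀ x ∈ trk β T, x ≠ γ → x ≠ sg γ → m' x = m x) ∧
      finrank ℂ ↥(Γ.Es z (orbL R) m ⊓ Y) ≤ finrank ℂ ↥(Γ.Es z (orbL R) m' ⊓ Y) := by
  simp only [chkStep, Bool.and_eq_true, List.all_eq_true, List.contains_iff_mem, decide_eq_true_eq,
    Bool.not_eq_true', natBeq_eq, decide_eq_false_iff_not, beq_iff_eq, decide_eq_decide, Bool.or_eq_true] at h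
  obtain ⟨⟨⟨⟨⟨hmv, hγA⟩, hfix⟩, hsm⟩, hγβ⟩, hkeep⟩ := h
  have hγ : γ < 72 := hA.lt γ hγA
  have he : e < 72 := (chkCl_iff.1 (chkMv_iff.1 (List.all_eq_true.1 hmv e (self_mem_orb e))).1).1
  have hN : (Nc E e γ : K) ≠ 0 := by
    have hn := (chkMv_iff.1 (List.all_eq_true.1 hmv e (self_mem_orb e))).2.2 γ hγA
    exact (Γ.X.Nc_unit (show e < chevE6.nroots from he) (show γ < chevE6.nroots from hγ) hn hsm).2
  set s : K := (m γ - g γ) / ((Nc E e γ : K) * m β) with hsdef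
  have hl : ∀ p ∈ [(e, s)], okB Γ.φ p := by
    intro p hp; rw [List.mem_singleton] at hp; subst hp
    refine ⟨he, fun h' => ?_⟩
    have hγs := hfix.2 h'
    show Γ.φ s = s
    rw [hsdef, map_div₀, map_sub, map_mul, map_intCast, hm.fix hγ hγs, hg.fix hγ hγs, hm.fix hβ' hβ]
  set m' := shW (bl Γ.φ [(e, s)]) m with hm'
  have hm'eq : Eqv Γ.φ m' := hm.shW Γ.H.h2 hl
  have hblk : bl Γ.φ [(e, s)] = if sg e = e then [(e, s)] else [(e, s), (sg e, (ep e : K) * Γ.φ s)] := by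
    simp [bl, blk]
  have main : (∀ a ∈ orbL R, a ∉ Dn → m' a = 0) ∧
      ∀ x ∈ trk β T, (x ≠ γ → x ≠ sg γ → m' x = m x) ∧ (x = γ → m' x = m γ - (Nc E e γ : K) * s * m β) := by
    by_cases h' : sg e = e
    · have hγs := hfix.2 h'
      obtain ⟨k1, k2⟩ := hkeep e (self_mem_orb e)
      have e0 : m' = shM E e s m := by rw [hm', hblk, if_pos h']; rfl
      refine ⟨fun a ha hn => ?_, fun x hx => ⟨fun h1 h1' => ?_, fun h1 => ?_⟩⟩
      · rw [e0, keep_val ((k1 a ha).resolve_left hn) hs, hs a ha hn]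
      · rcases (k2 x hx).2 with (⟨e1, -⟩ | ⟨e1, -⟩) | k
        · exact absurd e1 h1
        · exact absurd e1 h1'
        · rw [e0, keep_val k hs]
      · subst h1; rw [e0, shM_some hsm]
    · have hγs : sg γ ≠ γ := fun e1 => h' (hfix.1 e1)
      obtain ⟨k1, k2⟩ := hkeep e (self_mem_orb e)
      obtain ⟨k1', k2'⟩ := hkeep (sg e) (by simp [orb, h'])
      set f := shM E (sg e) ((ep e : K) * Γ.φ s) m with hf
      have hf0 : ∀ a ∈ orbL R, a ∉ Dn → f a = 0 := fun a ha hn => by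
        rw [hf, keep_val ((k1' a ha).resolve_left hn) hs, hs a ha hn]
      have hfx : ∀ x ∈ trk β T, x ≠ sg γ → f x = m x := fun x hx h1 => by
        rcases (k2' x hx).2 with (⟨-, e2⟩ | ⟨e1, -⟩) | k
        · exact absurd e2 h'
        · exact absurd e1 h1
        · rw [hf, keep_val k hs]
      have e0 : m' = shM E e s f := by rw [hm', hblk, if_neg h']; rfl
      refine ⟨fun a ha hn => ?_, fun x hx => ⟨fun h1 h1' => ?_, fun h1 => ?_⟩⟩
      · rw [e0, keep_val ((k1 a ha).resolve_left hn) hf0, hf0 a ha hn]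
      · rcases (k2 x hx).2 with (⟨e1, -⟩ | ⟨e1, -⟩) | k
        · exact absurd e1 h1
        · exact absurd e1 h1'
        · rw [e0, keep_val k hf0, hfx x hx h1']
      · subst h1
        rw [e0, shM_some hsm, hfx x hx (Ne.symm hγs), hfx β List.mem_cons_self]
        intro e1; exact hγβ (by rw [← hβ, e1, sg_sg hγ])
  refine ⟨m', hm'eq, main.1, ?_, fun x hx h1 h1' => (main.2 x hx).1 h1 h1', ?_⟩
  · rw [(main.2 γ hγT).2 rfl, hsdef]
    field_simp
    ring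
  · exact Γ.finrank_le_of_map (Γ.el hl) fun v hv => ⟨Γ.move_mem hA hR hl
      (fun p hp => by rw [List.mem_singleton] at hp; subst hp; exact hmv) hv.1, hY s hl v hv.2⟩

/-- Translations move the tracked coordinates to given values. -/
theorem translate [FiniteDimensional ℂ V] {z : ℕ} {R Dn : List ℕ} {β : ℕ} {T : List (ℕ × ℕ)}
    (hA : Ab z (orbL R)) (hR : ∀ r ∈ R, r < 72) (h : chkTrT z R Dn β T = true) (Y : Submodule ℂ V)
    (hY : ∀ p ∈ T, Γ.Inv Y p.2) {m g : ℕ → K} (hm : Eqv Γ.φ m)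
    (hg : Eqv Γ.φ g) (hs : ∀ a ∈ orbL R, a ∉ Dn → m a = 0) (hne : m β ≠ 0) :
    ∃ m', Eqv Γ.φ m' ∧ (∀ a ∈ orbL R, a ∉ Dn → m' a = 0) ∧ m' β = m β ∧
      (∀ x ∈ orbL (T.map Prod.fst), m' x = g x) ∧
      finrank ℂ ↥(Γ.Es z (orbL R) m ⊓ Y) ≤ finrank ℂ ↥(Γ.Es z (orbL R) m' ⊓ Y) := by
  simp only [chkTrT, Bool.and_eq_true, natBeq_eq, decide_eq_true_eq, Nat.blt_eq, List.all_eq_true] at h
  obtain ⟨⟨⟨hβ, hβ'⟩, hnd⟩, hstep⟩ := h
  have hnd' := List.nodup_cons.1 (show (β :: orbL (T.map Prod.fst)).Nodup from hnd)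
  have key : ∀ S : List (ℕ × ℕ), (∀ p ∈ S, p ∈ T) → (orbL (S.map Prod.fst)).Nodup →
      ∀ m, Eqv Γ.φ m → (∀ a ∈ orbL R, a ∉ Dn → m a = 0) → m β ≠ 0 →
      ∃ m', Eqv Γ.φ m' ∧ (∀ a ∈ orbL R, a ∉ Dn → m' a = 0) ∧
        (∀ x ∈ trk β T, x ∉ orbL (S.map Prod.fst) → m' x = m x) ∧ (∀ p ∈ S, m' p.1 = g p.1) ∧
        finrank ℂ ↥(Γ.Es z (orbL R) m ⊓ Y) ≤ finrank ℂ ↥(Γ.Es z (orbL R) m' ⊓ Y) := by
    intro S
    induction S with
    | nil => exact fun _ _ m hm hs _ => ⟨m, hm, hs, fun _ _ _ => rfl, by simp, le_rfl⟩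
    | cons p S ih =>
      intro hS hSnd m hm hs hne
      obtain ⟨γ, e⟩ := p
      have eo : orbL (((γ, e) :: S).map Prod.fst) = orb γ ++ orbL (S.map Prod.fst) := rfl
      rw [eo] at hSnd
      obtain ⟨-, hSnd', hdis⟩ := List.nodup_append.1 hSnd
      have hp := hS _ List.mem_cons_self
      have hγT : γ ∈ trk β T := List.mem_cons_of_mem _ (mem_orbL_self (List.mem_map.2 ⟨_, hp, rfl⟩))
      obtain ⟨m1, h1, h3, h4, h5, h6⟩ := Γ.step hA hR hβ hβ' (hstep _ hp) hγT Y (hY _ hp) hm hg hs hne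
      have hβγ : β ≠ γ ∧ β ≠ sg γ := by
        have hk := hstep _ hp
        simp only [chkStep, Bool.and_eq_true, Bool.not_eq_true', natBeq_eq, decide_eq_false_iff_not,
          List.contains_iff_mem] at hk
        refine ⟨fun e' => hk.1.2 e'.symm, fun e' => hk.1.2 ?_⟩
        rw [← sg_sg (hA.lt γ hk.1.1.1.1.2), ← e', hβ]
      obtain ⟨m', i1, i2, i3, i4, i5⟩ := ih (fun a ha => hS a (List.mem_cons_of_mem _ ha)) hSnd' m1 h1 h3
        (by rw [h5 β List.mem_cons_self hβγ.1 hβγ.2]; exact hne)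
      refine ⟨m', i1, i2, fun x hx hx' => ?_, fun a ha => ?_, h6.trans i5⟩
      · rw [eo, List.mem_append, not_or] at hx'
        rw [i3 x hx hx'.2, h5 x hx (fun e' => hx'.1 (e' ▸ self_mem_orb γ))]
        intro e'
        refine hx'.1 ?_
        unfold orb
        split_ifs with hh <;> simp [e', hh]
      · rcases List.mem_cons.1 ha with rfl | ha
        · show m' γ = g γ
          rw [i3 γ hγT (fun hh => hdis γ (self_mem_orb γ) γ hh rfl), h4]
        · exact i4 a ha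
  obtain ⟨m', h1, h3, h4, h5, h6⟩ := key T (fun _ h => h) hnd'.2 m hm hs hne
  refine ⟨m', h1, h3, h4 β List.mem_cons_self hnd'.1, fun x hx => ?_, h6⟩
  obtain ⟨a, ha, hxa⟩ := List.mem_flatMap.1 hx
  obtain ⟨p, hp, rfl⟩ := List.mem_map.1 ha
  rcases mem_orb hxa with rfl | ⟨rfl, -⟩
  · exact h5 p hp
  · have hk := hstep _ hp
    simp only [chkStep, Bool.and_eq_true, List.contains_iff_mem] at hk
    have hγ := hA.lt p.1 hk.1.1.1.1.2
    rw [h1.apply_sg hγ, hg.apply_sg hγ, h5 p hp]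

/-- The translates of a function supported on the one root. -/
theorem translate_dl [FiniteDimensional ℂ V] {z : ℕ} {R Dn : List ℕ} {β : ℕ} {T : List (ℕ × ℕ)}
    (hA : Ab z (orbL R)) (hR : ∀ r ∈ R, r < 72) (h : chkTrT z R Dn β T = true) (hβD : β ∈ Dn) (Y : Submodule ℂ V)
    (hY : ∀ p ∈ T, Γ.Inv Y p.2) {t : K} (ht : Γ.φ t = t) (ht0 : t ≠ 0) {g : ℕ → K} (hg : Eqv Γ.φ g) :
    ∃ m', Eqv Γ.φ m' ∧ (∀ a ∈ orbL R, a ∉ Dn → m' a = 0) ∧ m' β = t ∧
      (∀ x ∈ orbL (T.map Prod.fst), m' x = g x) ∧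
      finrank ℂ ↥(Γ.Es z (orbL R) (dl β t) ⊓ Y) ≤ finrank ℂ ↥(Γ.Es z (orbL R) m' ⊓ Y) := by
  have h' := h
  simp only [chkTrT, Bool.and_eq_true, natBeq_eq, decide_eq_true_eq, Nat.blt_eq] at h'
  obtain ⟨m', h1, h2, h3, h4, h5⟩ := Γ.translate hA hR h Y hY (m := dl β t) (eqv_dl _ h'.1.1.1 ht) hg
    (fun a _ ha => dl_ne _ fun e => ha (e ▸ hβD)) (by rwa [dl_self])
  exact ⟨m', h1, h2, h3.trans (dl_self β t), h4, h5⟩

theorem inv_top (e : ℕ) : Γ.Inv ⊤ e := fun _ _ _ _ => trivial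

/-- Moves of eigenspaces with all values zero. -/
theorem inv_zero {z : ℕ} {R : List ℕ} (hA : Ab z (orbL R)) (hR : ∀ r ∈ R, r < 72) {e : ℕ}
    (h : chkMvs z R e = true) : Γ.Inv (Γ.Es z (orbL R) 0) e := fun s hl v hv => by
  have h1 := Γ.move_mem hA hR hl (fun p hp => by rw [List.mem_singleton] at hp; subst hp; exact h) hv
  rwa [Γ.Es_congr (m' := 0) fun r _ => by rw [shW_zero]; rfl] at h1

end Ctx

end Cfsg.Agent.Lib.TE6Deg41
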